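import Mathlib
import Cfsg.Agent.Lib.LocalEven.BlockModule

/-!
Small facts on the derived group of `SL₂` over the field with three elements.
-/

set_option autoImplicit false

namespace CfsgLib.LocalEven.SubBlock.SL3

open Matrix

local notation "SL3" => Matrix.SpecialLinearGroup (Fin 2) (ZMod 3)

/-- The quaternion elements. -/
def QSet (M : SL3) : Prop := M = 1 ∨ M = -1 ∨ M * M = -1

instance (M : SL3) : Decidable (QSet M) := inferInstanceAs (Decidable (_ ∨ _ ∨ _))

theorem qset_mul : ∀ a b : SL3, QSet a → QSet b → QSet (a * b) := by decide +kernel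

theorem qset_inv : ∀ a : SL3, QSet a → QSet a⁻¹ := by decide +kernel

theorem qset_comm : ∀ a b : SL3, QSet (a * b * a⁻¹ * b⁻¹) := by decide +kernel

/-- The quaternion subgroup. -/
def quat : Subgroup SL3 where
  carrier := {M | QSet M}
  one_mem' := Or.inl rfl
  mul_mem' := fun {a b} => qset_mul a b
  inv_mem' := fun {a} => qset_inv a

theorem qset_of_comm {M : SL3} (h : M ∈ commutator SL3) : QSet M := by
  have : commutator SL3 ≤ quat := by
    rw [commutator_def, Subgroup.commutator_le]
    intro a _ b _
    exact qset_comm a b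
  exact this h

theorem exists_comm_of_qset : ∀ M : SL3, QSet M → ∃ a b : SL3, a * b * a⁻¹ * b⁻¹ = M := by decide +kernel

theorem commutator_eq : commutator SL3 = quat := by
  refine le_antisymm (fun M => qset_of_comm) fun M hM => ?_
  obtain ⟨a, b, rfl⟩ := exists_comm_of_qset M hM
  exact Subgroup.commutator_mem_commutator (Subgroup.mem_top a) (Subgroup.mem_top b)

theorem noncomm : ∃ a b : SL3, QSet a ∧ QSet b ∧ a * b ≠ b * a := by decide +kernel

theorem card_qset : Fintype.card {M : SL3 // QSet M} = 8 := by decide +kernel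

section Two

local notation "SL2two" => Matrix.SpecialLinearGroup (Fin 2) (ZMod 2)

theorem cube_mul : ∀ a b : SL2two, a ^ 3 = 1 → b ^ 3 = 1 → (a * b) ^ 3 = 1 := by decide +kernel

theorem cube_comm : ∀ a b : SL2two, (a * b * a⁻¹ * b⁻¹) ^ 3 = 1 := by decide +kernel

theorem exists_comm_of_cube : ∀ M : SL2two, M ^ 3 = 1 → ∃ a b : SL2two, a * b * a⁻¹ * b⁻¹ = M := by decide +kernel

/-- The subgroup of order three. -/
def cyc : Subgroup SL2two where
  carrier := {M | M ^ 3 = 1}
  one_mem' := one_pow 3
  mul_mem' := fun {a b} => cube_mul a b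
  inv_mem' := fun {a} h => by simp only [Set.mem_setOf_eq] at h ⊢; rw [inv_pow, h, inv_one]

theorem card_cube : Fintype.card {M : SL2two // M ^ 3 = 1} = 3 := by decide +kernel

theorem card_commutator_two {F : Type*} [Field F] [Fintype F] (hF : Fintype.card F = 2) :
    Nat.card ↥(commutator (Matrix.SpecialLinearGroup (Fin 2) F)) = 3 := by
  let e := ZMod.ringEquivOfPrime F Nat.prime_two hF
  let i : SL2two ≃* Matrix.SpecialLinearGroup (Fin 2) F :=
    { toFun := Matrix.SpecialLinearGroup.map (e : ZMod 2 →+* F)
      invFun := Matrix.SpecialLinearGroup.map (e.symm : F →+* ZMod 2)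
      left_inv := fun M => by ext a b; exact e.symm_apply_apply _
      right_inv := fun M => by ext a b; exact e.apply_symm_apply _
      map_mul' := map_mul _ }
  have hc : commutator SL2two = cyc := by
    refine le_antisymm ?_ fun M hM => ?_
    · rw [commutator_def, Subgroup.commutator_le]
      intro a _ b _
      exact cube_comm a b
    · obtain ⟨a, b, rfl⟩ := exists_comm_of_cube M hM
      exact Subgroup.commutator_mem_commutator (Subgroup.mem_top a) (Subgroup.mem_top b)
  have h : (commutator SL2two).map i.toMonoidHom = commutator (Matrix.SpecialLinearGroup (Fin 2) F) := by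
    rw [map_commutator_eq, MonoidHom.range_eq_top_of_surjective i.toMonoidHom i.surjective, commutator_def]
  rw [← h, Subgroup.card_map_of_injective (f := i.toMonoidHom) i.injective, hc, ← card_cube,
    ← Nat.card_eq_fintype_card]
  exact Nat.card_congr (Equiv.refl _)

end Two

variable {F : Type*} [Field F] [Fintype F] (hF : Fintype.card F = 3)

/-- The transfer to an arbitrary field with three elements. -/
noncomputable def iso : SL3 ≃* Matrix.SpecialLinearGroup (Fin 2) F :=
  let e := ZMod.ringEquivOfPrime F Nat.prime_three hF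
  { toFun := Matrix.SpecialLinearGroup.map (e : ZMod 3 →+* F)
    invFun := Matrix.SpecialLinearGroup.map (e.symm : F →+* ZMod 3)
    left_inv := fun M => by ext i j; exact e.symm_apply_apply _
    right_inv := fun M => by ext i j; exact e.apply_symm_apply _
    map_mul' := map_mul _ }

theorem iso_neg_one : iso hF (-1) = -1 := by
  ext i j
  fin_cases i <;> fin_cases j <;> simp [iso]

include hF in
theorem mem_commutator_iff (M : Matrix.SpecialLinearGroup (Fin 2) F) :
    M ∈ commutator (Matrix.SpecialLinearGroup (Fin 2) F) ↔ M = 1 ∨ M = -1 ∨ M * M = -1 := by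
  have h : (commutator SL3).map (iso hF).toMonoidHom = commutator (Matrix.SpecialLinearGroup (Fin 2) F) := by
    rw [map_commutator_eq, MonoidHom.range_eq_top_of_surjective (iso hF).toMonoidHom (iso hF).surjective, commutator_def]
  rw [← h, commutator_eq]
  obtain ⟨N, rfl⟩ := (iso hF).surjective M
  have hmem : iso hF N ∈ quat.map (iso hF).toMonoidHom ↔ N ∈ quat := by
    constructor
    · rintro ⟨x, hx, hxe⟩
      rwa [← (iso hF).injective hxe]
    · exact fun hN => ⟨N, hN, rfl⟩
  rw [hmem, show N ∈ quat ↔ QSet N from Iff.rfl, QSet, ← (iso hF).injective.eq_iff (b := 1),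
    ← (iso hF).injective.eq_iff (b := -1), ← (iso hF).injective.eq_iff (a := N * N), map_one,
    iso_neg_one, map_mul]

include hF in
theorem card_commutator : Nat.card ↥(commutator (Matrix.SpecialLinearGroup (Fin 2) F)) = 8 := by
  have h : (commutator SL3).map (iso hF).toMonoidHom = commutator (Matrix.SpecialLinearGroup (Fin 2) F) := by
    rw [map_commutator_eq, MonoidHom.range_eq_top_of_surjective (iso hF).toMonoidHom (iso hF).surjective, commutator_def]
  rw [← h, Subgroup.card_map_of_injective (f := (iso hF).toMonoidHom) (iso hF).injective, commutator_eq,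
    ← card_qset, ← Nat.card_eq_fintype_card]
  exact Nat.card_congr (Equiv.refl _)

include hF in
theorem exists_noncomm :
    ∃ a b : ↥(commutator (Matrix.SpecialLinearGroup (Fin 2) F)), a * b ≠ b * a := by
  obtain ⟨a, b, ha, hb, hab⟩ := noncomm
  have hm : ∀ M : SL3, QSet M → iso hF M ∈ commutator (Matrix.SpecialLinearGroup (Fin 2) F) := fun M hM => by
    rw [mem_commutator_iff hF, ← iso_neg_one hF, ← map_mul, ← map_one (iso hF), (iso hF).injective.eq_iff,
      (iso hF).injective.eq_iff, (iso hF).injective.eq_iff]
    exact hM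
  refine ⟨⟨_, hm a ha⟩, ⟨_, hm b hb⟩, fun h => hab ((iso hF).injective ?_)⟩
  rw [map_mul, map_mul]
  exact congrArg Subtype.val h

end CfsgLib.LocalEven.SubBlock.SL3
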