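import Mathlib
import Cfsg.Agent.Lib.LocalEven.Baumann

/-!
Coprime commutator arguments used for subnormal blocks.
-/

set_option autoImplicit false

namespace CfsgLib.LocalEven.SubBlock

open Subgroup Cfsg
open scoped Pointwise commutatorElement

variable {G : Type*} [Group G] {p : ℕ}

theorem conj_eq_comm_mul (f k : G) : f * k * f⁻¹ = ⁅f, k⁆ * k := by
  rw [commutatorElement_def]; group

/-- An element of order prime to `p` acting trivially on two successive factors acts trivially. -/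
theorem comm_mem_of_coprime [Finite G] [Fact p.Prime] {K M : Subgroup G} (hK : IsPGroup p ↥K)
    {x f : G} (hf : (orderOf f).Coprime p) (hc : ⁅x, f⁆ ∈ K) (hfM : f ∈ normalizer (M : Set G))
    (hKM : K ≤ normalizer (M : Set G)) (hKf : ∀ k ∈ K, ⁅k, f⁆ ∈ M) : ⁅x, f⁆ ∈ M := by
  set c := ⁅x, f⁆ with hcdef
  have hpow : ∀ k : ℕ, ∃ y ∈ M, (c * f) ^ k = c ^ k * y * f ^ k := by
    intro k
    induction k with
    | zero => exact ⟨1, one_mem _, by simp⟩
    | succ k ih =>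
      obtain ⟨y, hy, hk⟩ := ih
      refine ⟨((c ^ k)⁻¹ * ⁅f, c ^ k⁆ * c ^ k) * (f * y * f⁻¹), mul_mem ?_ ((mem_normalizer_iff.1 hfM y).1 hy), ?_⟩
      · have h1 : ⁅f, c ^ k⁆ ∈ M := by
          rw [← commutatorElement_inv]
          exact inv_mem (hKf _ (pow_mem hc k))
        exact (mem_normalizer_iff''.1 (hKM (pow_mem hc k)) _).1 h1
      · rw [pow_succ', hk, commutatorElement_def, pow_succ' c, pow_succ' f]
        group
  obtain ⟨y, hy, hk⟩ := hpow (orderOf f)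
  have hcf : c * f = x * f * x⁻¹ := by rw [hcdef, commutatorElement_def]; group
  rw [hcf, conj_pow, pow_orderOf_eq_one, mul_one, mul_inv_cancel, mul_one] at hk
  have hcm : c ^ orderOf f ∈ M := by
    rw [eq_inv_of_mul_eq_one_left hk.symm]
    exact inv_mem hy
  obtain ⟨j, hj⟩ := IsPGroup.iff_orderOf.1 hK ⟨c, hc⟩
  rw [Subgroup.orderOf_mk] at hj
  have hcop : (orderOf c).Coprime (orderOf f) := hj ▸ (hf.symm.pow_left j)
  obtain ⟨i, hi⟩ := exists_pow_eq_self_of_coprime hcop.symm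
  rw [← hi]
  exact pow_mem hcm i

/-- The elements `f` of `F` with `⁅X, f⁆ ⊆ M`. -/
theorem commutator_le_of_generators {X F M : Subgroup G} (hFM : F ≤ normalizer (M : Set G))
    {S : Set G} (hS : F ≤ closure S) (hSF : S ⊆ F) (h : ∀ x ∈ X, ∀ f ∈ S, ⁅x, f⁆ ∈ M) :
    ⁅X, F⁆ ≤ M := by
  rw [commutator_le]
  intro x hx f hf
  have key : ∀ g ∈ closure S, g ∈ F ∧ ⁅x, g⁆ ∈ M := by
    intro g hg
    induction hg using closure_induction with
    | mem g hg => exact ⟨hSF hg, h x hx g hg⟩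
    | one => exact ⟨one_mem _, by simp⟩
    | mul a b _ _ ha hb =>
      refine ⟨mul_mem ha.1 hb.1, ?_⟩
      rw [show ⁅x, a * b⁆ = ⁅x, a⁆ * (a * ⁅x, b⁆ * a⁻¹) by simp only [commutatorElement_def]; group]
      exact mul_mem ha.2 ((mem_normalizer_iff.1 (hFM ha.1) _).1 hb.2)
    | inv a _ ha =>
      refine ⟨inv_mem ha.1, ?_⟩
      rw [show ⁅x, a⁻¹⁆ = a⁻¹ * ⁅x, a⁆⁻¹ * a by simp only [commutatorElement_def]; group]
      exact (mem_normalizer_iff''.1 (hFM ha.1) _).1 (inv_mem ha.2)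
  exact (key f (hS hf)).2

/-- The elements of order prime to `p` generate `O^p`. -/
theorem le_closure_coprime {F : Subgroup G} (hF : pResidualOf p F = F) :
    F ≤ closure {f | f ∈ F ∧ (orderOf f).Coprime p} :=
  hF.symm.le.trans (Baumann.pResidualOf_le_iff.2 fun _ hf hc => subset_closure ⟨hf, hc⟩)

theorem commutator_le_of_coprime [Finite G] [Fact p.Prime] {X F K M : Subgroup G} (hK : IsPGroup p ↥K)
    (hF : pResidualOf p F = F) (hXF : ⁅X, F⁆ ≤ K) (hKF : ⁅K, F⁆ ≤ M)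
    (hFM : F ≤ normalizer (M : Set G)) (hKM : K ≤ normalizer (M : Set G)) : ⁅X, F⁆ ≤ M := by
  refine commutator_le_of_generators hFM (le_closure_coprime hF) (fun f hf => hf.1) fun x hx f hf => ?_
  exact comm_mem_of_coprime hK hf.2 (hXF (commutator_mem_commutator hx hf.1)) (hFM hf.1) hKM
    fun k hk => hKF (commutator_mem_commutator hk hf.1)

theorem commutator_eq_bot_of_coprime [Finite G] [Fact p.Prime] {X F K : Subgroup G} (hK : IsPGroup p ↥K)
    (hF : pResidualOf p F = F) (hXF : ⁅X, F⁆ ≤ K) (hKF : ⁅K, F⁆ = ⊥) : ⁅X, F⁆ = ⊥ :=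
  le_bot_iff.1 (commutator_le_of_coprime hK hF hXF hKF.le (by rw [normalizer_eq_top]; exact le_top)
    (by rw [normalizer_eq_top]; exact le_top))

theorem eq_one_of_pElem_coprime {K : Subgroup G} (hK : IsPGroup p ↥K) {x : G} (hx : x ∈ K)
    (hc : (orderOf x).Coprime p) : x = 1 := by
  obtain ⟨k, hk⟩ := hK ⟨x, hx⟩
  have h1 : orderOf x ∣ p ^ k := orderOf_dvd_of_pow_eq_one (by simpa using congrArg Subtype.val hk)
  exact orderOf_eq_one_iff.1 (Nat.eq_one_of_dvd_coprimes (hc.pow_right k) dvd_rfl h1)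

/-- A group is a `p`-group if its elements of order prime to `p` are trivial. -/
theorem isPGroup_of_coprime_eq_one [Finite G] [hp : Fact p.Prime] {X : Subgroup G}
    (h : ∀ x ∈ X, (orderOf x).Coprime p → x = 1) : IsPGroup p ↥X := by
  refine IsPGroup.iff_orderOf.2 fun k => ?_
  obtain ⟨a, m, hm, hkm⟩ := Nat.exists_eq_pow_mul_and_not_dvd (orderOf_pos k).ne' p hp.out.ne_one
  refine ⟨a, ?_⟩
  rw [hkm]
  have ho : orderOf ((k : G) ^ p ^ a) = m := by
    rw [orderOf_pow' _ (pow_ne_zero a hp.out.ne_zero), orderOf_coe, hkm, Nat.gcd_mul_right_left,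
      Nat.mul_div_cancel_left _ (pow_pos hp.out.pos a)]
  have h1 := h _ (pow_mem k.2 _) (by rw [ho]; exact ((hp.out.coprime_iff_not_dvd).2 hm).symm)
  rw [h1, orderOf_one] at ho
  rw [← ho, mul_one]

/-- A `p`-group commuting with `E` on an irreducible abelian section centralises the section. -/
theorem commutator_le_of_irreducible [Finite G] [Fact p.Prime] {E W Z P : Subgroup G}
    (hab : ∀ a ∈ W, ∀ b ∈ W, ⁅a, b⁆ ∈ Z) (hZW : Z ≤ W) (hWp : IsPGroup p ↥W)
    (hirr : ∀ U : Subgroup G, Z ≤ U → U ≤ W → E ≤ normalizer (U : Set G) → U = Z ∨ U = W)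
    (hP : IsPGroup p ↥P) (hPW : P ≤ normalizer (W : Set G)) (hPZ : P ≤ normalizer (Z : Set G))
    (hEW : E ≤ normalizer (W : Set G)) (hEZ : E ≤ normalizer (Z : Set G))
    (hcomm : ∀ e ∈ E, ∀ q ∈ P, ∀ w ∈ W, ⁅⁅e, q⁆, w⁆ ∈ Z) : ⁅W, P⁆ ≤ Z := by
  classical
  have hWZ : W ≤ normalizer (Z : Set G) := by
    intro a ha
    refine CfsgLib.LocalEven.mem_normalizer_of_conj_le ?_
    rintro _ ⟨z, hz, rfl⟩
    show a * z * a⁻¹ ∈ Z
    rw [conj_eq_comm_mul]
    exact mul_mem (hab a ha z (hZW hz)) hz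
  let U : Subgroup G :=
    { carrier := {w | w ∈ W ∧ ∀ q ∈ P, ⁅q, w⁆ ∈ Z}
      one_mem' := ⟨one_mem W, fun q _ => by simp⟩
      mul_mem' := fun {a b} ha hb => ⟨mul_mem ha.1 hb.1, fun q hq => by
        rw [show ⁅q, a * b⁆ = ⁅q, a⁆ * (a * ⁅q, b⁆ * a⁻¹) by simp only [commutatorElement_def]; group]
        exact mul_mem (ha.2 q hq) (Baumann.conj_mem_of_le_normalizer hWZ ha.1 (hb.2 q hq))⟩
      inv_mem' := fun {a} ha => ⟨inv_mem ha.1, fun q hq => by
        rw [show ⁅q, a⁻¹⁆ = a⁻¹ * ⁅q, a⁆⁻¹ * a⁻¹⁻¹ by simp only [commutatorElement_def]; group]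
        exact Baumann.conj_mem_of_le_normalizer hWZ (inv_mem ha.1) (inv_mem (ha.2 q hq))⟩ }
  have hUW : U ≤ W := fun w hw => hw.1
  have hZU : Z ≤ U := fun z hz => ⟨hZW hz, fun q hq => by
    rw [commutatorElement_def]
    exact mul_mem (Baumann.conj_mem_of_le_normalizer hPZ hq hz) (inv_mem hz)⟩
  have hEU : E ≤ normalizer (U : Set G) := by
    intro e he
    refine CfsgLib.LocalEven.mem_normalizer_of_conj_le ?_
    rintro _ ⟨w, hw, rfl⟩
    refine ⟨Baumann.conj_mem_of_le_normalizer hEW he hw.1, fun q hq => ?_⟩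
    set c := ⁅e⁻¹, q⁆ with hc
    have hcN : c ∈ normalizer (Z : Set G) := by
      rw [hc, commutatorElement_def]
      exact mul_mem (mul_mem (mul_mem (inv_mem (hEZ he)) (hPZ hq)) (inv_mem (inv_mem (hEZ he)))) (inv_mem (hPZ hq))
    have h1 : c * ⁅q, w⁆ * c⁻¹ * ⁅c, w⁆ ∈ Z :=
      mul_mem ((mem_normalizer_iff.1 hcN _).1 (hw.2 q hq)) (hcomm _ (inv_mem he) q hq w hw.1)
    show ⁅q, e * w * e⁻¹⁆ ∈ Z
    rw [show ⁅q, e * w * e⁻¹⁆ = e * (c * ⁅q, w⁆ * c⁻¹ * ⁅c, w⁆) * e⁻¹ by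
      simp only [hc, commutatorElement_def]; group]
    exact Baumann.conj_mem_of_le_normalizer hEZ he h1
  rw [commutator_le]
  intro w hw q hq
  suffices hU : U = W by
    rw [← hU] at hw
    rw [← commutatorElement_inv]
    exact inv_mem (hw.2 q hq)
  rcases hirr U hZU hUW hEU with h | h
  swap
  · exact h
  by_cases hWZ' : W = Z
  · exact le_antisymm hUW (hWZ'.le.trans hZU)
  exfalso
  haveI hn : ((Z).subgroupOf W).Normal := ⟨fun a ha g =>
    Baumann.conj_mem_of_le_normalizer hWZ g.2 ha⟩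
  let φ : ↥P → (↥W ⧸ Z.subgroupOf W) → (↥W ⧸ Z.subgroupOf W) := fun q =>
    Quotient.map' (fun u => ⟨(q : G) * u * (q : G)⁻¹, Baumann.conj_mem_of_le_normalizer hPW q.2 u.2⟩)
      (fun a b hab => by
        rw [QuotientGroup.leftRel_apply] at hab ⊢
        show ((q : G) * a * (q : G)⁻¹)⁻¹ * ((q : G) * b * (q : G)⁻¹) ∈ Z
        have := Baumann.conj_mem_of_le_normalizer hPZ q.2 (show ((a : G))⁻¹ * b ∈ Z from hab)
        rwa [show ((q : G) * a * (q : G)⁻¹)⁻¹ * ((q : G) * b * (q : G)⁻¹) = (q : G) * ((a : G)⁻¹ * b) * (q : G)⁻¹ by group])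
  letI : MulAction ↥P (↥W ⧸ Z.subgroupOf W) :=
    { smul := φ
      one_smul := fun x => by
        induction x using QuotientGroup.induction_on with
        | H u =>
          show (QuotientGroup.mk _ : ↥W ⧸ Z.subgroupOf W) = QuotientGroup.mk u
          congr 1
          exact Subtype.ext (by simp)
      mul_smul := fun a b x => by
        induction x using QuotientGroup.induction_on with
        | H u =>
          show (QuotientGroup.mk _ : ↥W ⧸ Z.subgroupOf W) = QuotientGroup.mk _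
          congr 1
          exact Subtype.ext (by simp [mul_assoc]) }
  have hdvd : p ∣ Nat.card (↥W ⧸ Z.subgroupOf W) := by
    obtain ⟨k, hk⟩ := IsPGroup.iff_card.1 (hWp.to_quotient (Z.subgroupOf W))
    rw [hk]
    refine dvd_pow_self p fun h0 => hWZ' ?_
    rw [h0, pow_zero, ← Subgroup.index, index_eq_one, subgroupOf_eq_top] at hk
    exact le_antisymm hk hZW
  have h1fix : ((1 : ↥W ⧸ Z.subgroupOf W)) ∈ MulAction.fixedPoints ↥P (↥W ⧸ Z.subgroupOf W) := fun q => by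
    show (QuotientGroup.mk _ : ↥W ⧸ Z.subgroupOf W) = QuotientGroup.mk 1
    congr 1
    exact Subtype.ext (by simp)
  obtain ⟨x, hx, hx1⟩ := hP.exists_fixed_point_of_prime_dvd_card_of_fixed_point _ hdvd h1fix
  induction x using QuotientGroup.induction_on with
  | H u =>
    have hu : (u : G) ∈ U := ⟨u.2, fun q hq => by
      have h2 : (QuotientGroup.mk _ : ↥W ⧸ Z.subgroupOf W) = QuotientGroup.mk u := hx ⟨q, hq⟩
      rw [QuotientGroup.eq] at h2
      have h3 : ((q : G) * u * q⁻¹)⁻¹ * u ∈ Z := h2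
      have h4 := (mem_normalizer_iff.1 (hWZ u.2) _).1 (inv_mem h3)
      rwa [show (u : G) * (((q : G) * u * q⁻¹)⁻¹ * u)⁻¹ * (u : G)⁻¹ = ⁅q, (u : G)⁆ by
        rw [commutatorElement_def]; group] at h4⟩
    rw [h] at hu
    exact hx1 ((QuotientGroup.eq_one_iff u).2 hu).symm

end CfsgLib.LocalEven.SubBlock
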