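import Mathlib
import Cfsg.Agent.Lib.LocalEven.BlockBasic
import Cfsg.Agent.Lib.LocalEven.SubBlock.Basic
import Cfsg.Agent.Lib.LocalEven.SubBlock.SL3
import Cfsg.Agent.Lib.Components.AltStandard
import Cfsg.Agent.Lib.Components.SLBlock
import Cfsg.Agent.Lib.Classical.SmallIso.PSL2

/-!
The data attached to a `B(T)`-block.
-/

set_option autoImplicit false

namespace CfsgLib.LocalEven.SubBlock

open Subgroup Cfsg
open scoped Pointwise commutatorElement

variable {G : Type*} [Group G] {p : ℕ}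

/-- `W = Ω₁(Z(O_p(E)))`. -/
abbrev bW (p : ℕ) (E : Subgroup G) : Subgroup G := omegaOneCenter p (pCoreOf p E)

/-- `Z = C_W(E)`. -/
abbrev bZ (p : ℕ) (E : Subgroup G) : Subgroup G := bW p E ⊓ centralizer (E : Set G)

/-- `W_E = [W, E]`. -/
abbrev bWE (p : ℕ) (E : Subgroup G) : Subgroup G := ⁅bW p E, E⁆

/-- Blocks with `E / O_p(E)` quasisimple. -/
def Perf (p : ℕ) (E : Subgroup G) : Prop :=
  IsQuasisimple (↥E ⧸ pCore p ↥E) ∧ p ∣ Nat.card (↥E ⧸ pCore p ↥E)

/-- Blocks with `E / O_p(E)` solvable. -/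
structure Solv (p : ℕ) (E : Subgroup G) (s : G) : Prop where
  type : (p = 2 ∧ Nat.card (↥E ⧸ pCore p ↥E) = 3) ∨ (p = 3 ∧ Nat.card (↥E ⧸ pCore p ↥E) = 8)
  mem : s ∈ E
  cop : (orderOf s).Coprime p
  notQ : s * s ∉ pCoreOf p E
  central : ∀ e ∈ E, ⁅e, s * s⁆ ∈ pCoreOf p E
  cardW : ((bZ p E).subgroupOf (bW p E)).index = p ^ 2
  inv2 : p = 3 → s * s * (s * s) ∈ pCoreOf p E
  noncomm : p = 3 → ∃ a ∈ E, ∃ b ∈ E, ⁅a, b⁆ ∉ pCoreOf p E
  quat : p = 3 → ∀ e ∈ E, e ∈ pCoreOf p E ∨ e * (s * s)⁻¹ ∈ pCoreOf p E ∨ e * e * (s * s)⁻¹ ∈ pCoreOf p E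

variable [Finite G] [Fact p.Prime] {T : Subgroup G} {E : Subgroup G}

omit [Finite G] [Fact p.Prime] in
theorem bW_le_core (E : Subgroup G) : bW p E ≤ pCoreOf p E := CfsgLib.LocalEven.Oz.le_self _

omit [Finite G] [Fact p.Prime] in
theorem bW_le (E : Subgroup G) : bW p E ≤ E := (bW_le_core E).trans (CfsgLib.LocalEven.pCoreOf_le p E)

omit [Finite G] [Fact p.Prime] in
theorem core_comm {q w : G} (hq : q ∈ pCoreOf p E) (hw : w ∈ bW p E) : q * w = w * q :=
  (CfsgLib.LocalEven.Oz.mem_iff.1 hw).2.1 q hq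

omit [Finite G] [Fact p.Prime] in
theorem bW_comm {a b : G} (ha : a ∈ bW p E) (hb : b ∈ bW p E) : a * b = b * a :=
  core_comm (bW_le_core E ha) hb

theorem isPGroup_bW (E : Subgroup G) : IsPGroup p ↥(bW p E) :=
  (CfsgLib.LocalEven.isPGroup_pCoreOf p E).to_le (bW_le_core E)

omit [Fact p.Prime] in
theorem normalizer_le_bW (E : Subgroup G) : normalizer (E : Set G) ≤ normalizer (bW p E : Set G) :=
  (Block.normalizer_le_pCoreOf E).trans (Block.le_normalizer_omegaCentre E)

omit [Fact p.Prime] in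
theorem normalizer_le_bZ (E : Subgroup G) : normalizer (E : Set G) ≤ normalizer (bZ p E : Set G) :=
  fun _ hg => Baumann.normalizer_inf_le _ _
    ⟨normalizer_le_bW E hg, CfsgLib.LocalEven.Oz.mem_normalizer_centralizer hg⟩

omit [Fact p.Prime] in
theorem le_normalizer_bW (E : Subgroup G) : E ≤ normalizer (bW p E : Set G) :=
  le_normalizer.trans (normalizer_le_bW E)

omit [Fact p.Prime] in
theorem le_normalizer_bZ (E : Subgroup G) : E ≤ normalizer (bZ p E : Set G) :=
  le_normalizer.trans (normalizer_le_bZ E)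

omit [Fact p.Prime] in
theorem bWE_le (E : Subgroup G) : bWE p E ≤ bW p E :=
  CfsgLib.Solvable.commutator_le_of_le_normalizer (le_normalizer_bW E)

omit [Fact p.Prime] in
theorem normalizer_le_bWE (E : Subgroup G) : normalizer (E : Set G) ≤ normalizer (bWE p E : Set G) :=
  fun _ hg => CfsgLib.Solvable.normalizer_le_normalizer_commutator _ _ ⟨normalizer_le_bW E hg, hg⟩

omit [Fact p.Prime] in
theorem le_normalizer_bWE (E : Subgroup G) : E ≤ normalizer (bWE p E : Set G) :=
  le_normalizer.trans (normalizer_le_bWE E)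

theorem not_isPGroup (hE : IsBaumannBlock p T E) : ¬ IsPGroup p ↥E := by
  intro h
  refine hE.2.2.2.1 ?_
  suffices hbot : E = ⊥ by rw [hbot, commutator_bot_left]
  rw [eq_bot_iff, ← hE.1, Baumann.pResidualOf_le_iff]
  exact fun e he hc => (eq_one_of_pElem_coprime h he hc).symm ▸ one_mem _

theorem bWE_not_le (hE : IsBaumannBlock p T E) : ¬ bWE p E ≤ bZ p E := by
  intro h
  refine not_isPGroup hE ((CfsgLib.LocalEven.isPGroup_pCoreOf p E).to_le fun e he => ?_)
  have h1 : ⁅bW p E, E⁆ = ⊥ := commutator_eq_bot_of_coprime ((isPGroup_bW E).to_le inf_le_left) hE.1 h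
    (commutator_eq_bot_iff_le_centralizer.2 inf_le_right)
  exact (BlockModule.isBlockModule_of_block hE).2 e he fun w hw =>
    mem_centralizer_iff.1 (commutator_eq_bot_iff_le_centralizer.1 h1 hw) e he

omit [Fact p.Prime] in
theorem sup_bZ_normalized {X : Subgroup G} (hEX : E ≤ normalizer (X : Set G)) :
    E ≤ normalizer ((X ⊔ bZ p E : Subgroup G) : Set G) := by
  intro e he
  refine CfsgLib.LocalEven.mem_normalizer_of_conj_le (le_of_eq_of_le (Subgroup.map_sup _ _ _) (sup_le_sup ?_ ?_))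
  · exact (mem_normalizer_iff_map_conj_eq.1 (hEX he)).le
  · exact (mem_normalizer_iff_map_conj_eq.1 (le_normalizer_bZ E he)).le

theorem bWE_sup (hE : IsBaumannBlock p T E) : bWE p E ⊔ bZ p E = bW p E := by
  rcases (BlockModule.isBlockModule_of_block hE).1 (bWE p E ⊔ bZ p E) le_sup_right
      (sup_le (bWE_le E) inf_le_left) (sup_bZ_normalized (le_normalizer_bWE E)) with h | h
  · exact absurd (le_sup_left.trans_eq h) (bWE_not_le hE)
  · exact h

omit [Fact p.Prime] in
theorem exists_mul_of_sup {X : Subgroup G} (hX : X ≤ bW p E) {w : G} (hw : w ∈ X ⊔ bZ p E) :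
    ∃ x ∈ X, ∃ z ∈ bZ p E, w = x * z := by
  have hN : X ≤ normalizer (bZ p E : Set G) := (hX.trans (bW_le E)).trans (le_normalizer_bZ E)
  have h1 : w ∈ (↑(X ⊔ bZ p E) : Set G) := hw
  rw [coe_mul_of_left_le_normalizer_right X (bZ p E) hN] at h1
  obtain ⟨x, hx, z, hz, rfl⟩ := h1
  exact ⟨x, hx, z, hz, rfl⟩

omit [Finite G] [Fact p.Prime] in
theorem commutator_mul_bZ {x z e : G} (hz : z ∈ bZ p E) (he : e ∈ E) : ⁅x * z, e⁆ = ⁅x, e⁆ := by
  have hc : z * e = e * z := (mem_centralizer_iff.1 hz.2 e he).symm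
  simp only [commutatorElement_def]
  calc x * z * e * (x * z)⁻¹ * e⁻¹ = x * (z * e) * z⁻¹ * x⁻¹ * e⁻¹ := by group
    _ = x * (e * z) * z⁻¹ * x⁻¹ * e⁻¹ := by rw [hc]
    _ = x * e * x⁻¹ * e⁻¹ := by group

theorem bWE_commutator (hE : IsBaumannBlock p T E) : ⁅bWE p E, E⁆ = bWE p E := by
  refine le_antisymm (CfsgLib.Solvable.commutator_le_of_le_normalizer (le_normalizer_bWE E)) ?_
  conv_lhs => rw [bWE]
  rw [commutator_le]
  intro w hw e he
  rw [← bWE_sup hE] at hw
  obtain ⟨x, hx, z, hz, rfl⟩ := exists_mul_of_sup (bWE_le E) hw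
  rw [commutator_mul_bZ hz he]
  exact commutator_mem_commutator hx he

omit [Finite G] [Fact p.Prime] in
theorem orderOf_pow_self {x : G} (hx : (orderOf x).Coprime p) (k : ℕ) : (orderOf (x ^ k)).Coprime p :=
  hx.coprime_dvd_left (orderOf_pow_dvd k)

/-- Consequences of a solvable top. -/
theorem Solv.pow_data {s : G} (hs : Solv p E s) :
    s * s ∈ E ∧ (orderOf (s * s)).Coprime p ∧ (∀ w ∈ bW p E, ⁅s * s, w⁆ = 1 → (s * s) * w = w * (s * s)) := by
  refine ⟨mul_mem hs.mem hs.mem, ?_, fun w _ h => commutatorElement_eq_one_iff_mul_comm.1 h⟩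
  rw [← pow_two]
  exact orderOf_pow_self hs.cop 2

/-- The fixed points of `s²` meet `[W, E]` trivially. -/
theorem Solv.fixed_eq_one {s : G} (hs : Solv p E s) (hE : IsBaumannBlock p T E) {w : G}
    (hw : w ∈ bWE p E) (hfix : (s * s) * w = w * (s * s)) : w = 1 := by
  classical
  obtain ⟨hgE, hgc, -⟩ := hs.pow_data
  set g := s * s with hg
  have hgW : ∀ w ∈ bW p E, ⁅g, w⁆ ∈ bW p E := fun w hw => by
    rw [commutatorElement_def]
    exact mul_mem (Baumann.conj_mem_of_le_normalizer (le_normalizer_bW E) hgE hw) (inv_mem hw)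
  let D : ↥(bW p E) →* ↥(bW p E) :=
    { toFun := fun w => ⟨⁅g, (w : G)⁆, hgW w w.2⟩
      map_one' := Subtype.ext (commutatorElement_one_right g)
      map_mul' := fun a b => Subtype.ext (by
        show ⁅g, (a : G) * b⁆ = ⁅g, (a : G)⁆ * ⁅g, (b : G)⁆
        rw [show ⁅g, (a : G) * b⁆ = ⁅g, (a : G)⁆ * ((a : G) * ⁅g, (b : G)⁆ * (a : G)⁻¹) by
          simp only [commutatorElement_def]; group]
        rw [bW_comm a.2 (hgW b b.2), mul_inv_cancel_right]) }
  set I := D.range.map (bW p E).subtype with hI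
  have hIW : I ≤ bW p E := Subgroup.map_subtype_le _
  -- the image meets the fixed points trivially
  have hIfix : ∀ x ∈ I, g * x = x * g → x = 1 := by
    rintro _ ⟨_, ⟨u, rfl⟩, rfl⟩ h
    show ⁅g, (u : G)⁆ = 1
    rw [← commutatorElement_inv, inv_eq_one]
    refine mem_bot.1 (comm_mem_of_coprime (p := p) (K := bW p E ⊓ centralizer ({g} : Set G)) (M := ⊥)
      ((isPGroup_bW E).to_le inf_le_left) hgc ?_ (by rw [normalizer_eq_top]; exact mem_top _)
      (by rw [normalizer_eq_top]; exact le_top) ?_)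
    · rw [← commutatorElement_inv]
      exact inv_mem ⟨hgW u u.2, mem_centralizer_iff.2 fun y hy => by rw [Set.mem_singleton_iff.1 hy]; exact h⟩
    · intro k hk
      rw [mem_bot, commutatorElement_eq_one_iff_mul_comm]
      exact (mem_centralizer_iff.1 hk.2 g rfl).symm
  have hIN : E ≤ normalizer (I : Set G) := by
    intro e he
    refine CfsgLib.LocalEven.mem_normalizer_of_conj_le ?_
    rintro _ ⟨_, ⟨_, ⟨u, rfl⟩, rfl⟩, rfl⟩
    have hu' : e * (u : G) * e⁻¹ ∈ bW p E := Baumann.conj_mem_of_le_normalizer (le_normalizer_bW E) he u.2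
    refine ⟨_, ⟨⟨_, hu'⟩, rfl⟩, ?_⟩
    show ⁅g, e * (u : G) * e⁻¹⁆ = e * ⁅g, (u : G)⁆ * e⁻¹
    have hq := hs.central e he
    have hc : ⁅⁅e, g⁆, e * (u : G) * e⁻¹⁆ = 1 :=
      commutatorElement_eq_one_iff_mul_comm.2 (core_comm hq hu')
    have hgu : g * (e * (u : G) * e⁻¹) * g⁻¹ ∈ bW p E :=
      Baumann.conj_mem_of_le_normalizer (le_normalizer_bW E) hgE hu'
    have h2 : ⁅e, g⁆ * ⁅g, e * (u : G) * e⁻¹⁆ * ⁅e, g⁆⁻¹ = ⁅g, e * (u : G) * e⁻¹⁆ := by
      rw [core_comm hq (hgW _ hu'), mul_inv_cancel_right]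
    calc ⁅g, e * (u : G) * e⁻¹⁆ = ⁅e, g⁆ * ⁅g, e * (u : G) * e⁻¹⁆ * ⁅e, g⁆⁻¹ * ⁅⁅e, g⁆, e * (u : G) * e⁻¹⁆ := by
          rw [hc, mul_one, h2]
      _ = e * ⁅g, (u : G)⁆ * e⁻¹ := by simp only [commutatorElement_def]; group
  rcases (BlockModule.isBlockModule_of_block hE).1 (I ⊔ bZ p E) le_sup_right
      (sup_le hIW inf_le_left) (sup_bZ_normalized hIN) with h | h
  · exfalso
    refine hs.notQ ((BlockModule.isBlockModule_of_block hE).2 g hgE fun x hx => ?_)
    have hxI : ⁅g, x⁆ ∈ I := ⟨_, ⟨⟨x, hx⟩, rfl⟩, rfl⟩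
    have hxZ : ⁅g, x⁆ ∈ bZ p E := h.le (mem_sup_left hxI)
    exact commutatorElement_eq_one_iff_mul_comm.1 (hIfix _ hxI (mem_centralizer_iff.1 hxZ.2 g hgE))
  · refine hIfix w (commutator_le.2 (fun x hx e he => ?_) hw) hfix
    obtain ⟨y, hy, z, hz, rfl⟩ := exists_mul_of_sup hIW (h.ge hx)
    rw [commutator_mul_bZ hz he, commutatorElement_def, mul_assoc, mul_assoc]
    exact mul_mem hy (by simpa [mul_assoc] using Baumann.conj_mem_of_le_normalizer hIN he (inv_mem hy))

theorem Solv.bWE_inf (hE : IsBaumannBlock p T E) {s : G} (hs : Solv p E s) :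
    bWE p E ⊓ centralizer (E : Set G) = ⊥ := by
  rw [eq_bot_iff]
  intro w hw
  exact mem_bot.2 (hs.fixed_eq_one hE hw.1 (mem_centralizer_iff.1 hw.2 _ hs.pow_data.1))

theorem Solv.card_bWE (hE : IsBaumannBlock p T E) {s : G} (hs : Solv p E s) :
    Nat.card ↥(bWE p E) = p ^ 2 := by
  rw [← hs.cardW, ← Nat.card_congr (Subgroup.topEquiv (G := ↥(bWE p E))).toEquiv]
  haveI : ((bZ p E).subgroupOf (bW p E)).Normal := ⟨fun a ha g => by
    show (g : G) * a * (g : G)⁻¹ ∈ bZ p E
    rw [bW_comm g.2 a.2, mul_inv_cancel_right]; exact ha⟩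
  rw [Subgroup.index]
  refine Nat.card_congr (Equiv.ofBijective
    (fun w : ↥(⊤ : Subgroup ↥(bWE p E)) =>
      QuotientGroup.mk (s := (bZ p E).subgroupOf (bW p E)) ⟨((w : ↥(bWE p E)) : G), bWE_le E (w : ↥(bWE p E)).2⟩)
    ⟨fun a b hab => ?_, fun x => ?_⟩)
  · rw [QuotientGroup.eq] at hab
    have h1 : ((a : ↥(bWE p E)) : G)⁻¹ * ((b : ↥(bWE p E)) : G) ∈ bZ p E := hab
    have h2 : ((a : ↥(bWE p E)) : G)⁻¹ * ((b : ↥(bWE p E)) : G) ∈ bWE p E ⊓ centralizer (E : Set G) :=
      Subgroup.mem_inf.2 ⟨mul_mem (inv_mem (a : ↥(bWE p E)).2) (b : ↥(bWE p E)).2, (Subgroup.mem_inf.1 h1).2⟩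
    rw [hs.bWE_inf hE, mem_bot, inv_mul_eq_one] at h2
    exact Subtype.ext (Subtype.ext h2)
  · induction x using QuotientGroup.induction_on with
    | H u =>
      obtain ⟨y, hy, z, hz, hu⟩ := exists_mul_of_sup (bWE_le E) ((bWE_sup hE).ge u.2)
      refine ⟨⟨⟨y, hy⟩, mem_top _⟩, ?_⟩
      rw [QuotientGroup.eq]
      show y⁻¹ * (u : G) ∈ bZ p E
      rw [hu, inv_mul_cancel_left]; exact hz

/-- The quotient by `O_p` is read off from any isomorphism. -/
theorem exists_coprime_preimage {R : Type*} [Group R] [(pCore p ↥E).Normal]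
    (f : ↥E ⧸ pCore p ↥E ≃* R) (M : R) :
    ∃ e : ↥E, (orderOf (e : G)).Coprime p ∧ ∃ k : ℕ, f (QuotientGroup.mk e) = M ^ p ^ k := by
  obtain ⟨e0, he0⟩ := QuotientGroup.mk_surjective (f.symm M)
  obtain ⟨k, n, hn, hkn⟩ := Nat.exists_eq_pow_mul_and_not_dvd (orderOf_pos e0).ne' p (Fact.out : p.Prime).ne_one
  refine ⟨e0 ^ p ^ k, ?_, k, ?_⟩
  · rw [orderOf_coe, orderOf_pow' _ (pow_ne_zero k (Fact.out : p.Prime).ne_zero), hkn, Nat.gcd_mul_right_left,
      Nat.mul_div_cancel_left _ (pow_pos (Fact.out : p.Prime).pos k)]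
    exact ((Fact.out : p.Prime).coprime_iff_not_dvd.2 hn).symm
  · rw [QuotientGroup.mk_pow, map_pow, he0, MulEquiv.apply_symm_apply]

omit [Finite G] [Fact p.Prime] in
theorem mem_core_iff (e : ↥E) : (e : G) ∈ pCoreOf p E ↔ (QuotientGroup.mk e : ↥E ⧸ pCore p ↥E) = 1 := by
  rw [QuotientGroup.eq_one_iff, pCoreOf]
  constructor
  · rintro ⟨y, hy, hye⟩
    rwa [← Subtype.ext (show (y : G) = e from hye)]
  · exact fun h => ⟨e, h, rfl⟩

theorem pow_two_eq (x : ℕ) : x ^ 2 = x * x := pow_two x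

theorem solv_three (hp : p = 2) (h3 : Nat.card (↥E ⧸ pCore p ↥E) = 3)
    (hW : ((bZ p E).subgroupOf (bW p E)).index = p ^ 2) : ∃ s, Solv p E s := by
  haveI := CfsgLib.Cores.pCore_characteristic (G := ↥E) p
  haveI : Fact (Nat.Prime 3) := ⟨Nat.prime_three⟩
  haveI : IsCyclic (↥E ⧸ pCore p ↥E) := isCyclic_of_prime_card h3
  obtain ⟨x, hx⟩ : ∃ x : ↥E ⧸ pCore p ↥E, x ≠ 1 := by
    haveI : Nontrivial (↥E ⧸ pCore p ↥E) := by
      rw [← Finite.one_lt_card_iff_nontrivial, h3]; norm_num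
    exact exists_ne 1
  have hx3 : x ^ 3 = 1 := h3 ▸ pow_card_eq_one'
  obtain ⟨e, hec, k, hek⟩ := exists_coprime_preimage (MulEquiv.refl _) x
  have hex : (QuotientGroup.mk e : ↥E ⧸ pCore p ↥E) = x ^ p ^ k := hek
  refine ⟨e, ⟨Or.inl ⟨hp, h3⟩, e.2, hec, fun h => ?_, fun y hy => ?_, hW, fun h => by omega, fun h => by omega,
    fun h => by omega⟩⟩
  · have h1 := (mem_core_iff (e * e)).1 h
    rw [QuotientGroup.mk_mul, hex, ← pow_add] at h1
    have h2 := orderOf_dvd_of_pow_eq_one h1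
    rw [orderOf_eq_prime hx3 hx, ← two_mul, hp, ← pow_succ'] at h2
    exact absurd (Nat.prime_three.dvd_of_dvd_pow h2) (by norm_num)
  · refine (mem_core_iff (⁅(⟨y, hy⟩ : ↥E), e * e⁆)).2 ?_
    rw [← QuotientGroup.mk'_apply, map_commutatorElement, commutatorElement_eq_one_iff_mul_comm]
    exact (IsCyclic.commGroup (α := ↥E ⧸ pCore p ↥E)).mul_comm _ _

theorem solv_quat {F : Type*} [Field F] [Fintype F] (hF : Fintype.card F = 3) (hp : p = 3)
    (f : ↥E ⧸ pCore p ↥E ≃* ↥(commutator (Matrix.SpecialLinearGroup (Fin 2) F)))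
    (hW : ((bZ p E).subgroupOf (bW p E)).index = p ^ 2) : ∃ s, Solv p E s := by
  haveI := CfsgLib.Cores.pCore_characteristic (G := ↥E) p
  have h8 : Nat.card (↥E ⧸ pCore p ↥E) = 8 := by
    rw [Nat.card_congr f.toEquiv, SL3.card_commutator hF]
  have hne : (-1 : Matrix.SpecialLinearGroup (Fin 2) F) ≠ 1 := by
    intro h
    have h1 := congrArg (fun M : Matrix.SpecialLinearGroup (Fin 2) F => (M : Matrix (Fin 2) (Fin 2) F) 0 0) h
    simp at h1
    have h3 : ((Fintype.card F : ℕ) : F) = 0 := FiniteField.cast_card_eq_zero F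
    rw [hF, Nat.cast_ofNat] at h3
    exact one_ne_zero (α := F) (by linear_combination h3 + h1)
  let M : ↥(commutator (Matrix.SpecialLinearGroup (Fin 2) F)) := ⟨BlockModule.gW, BlockModule.gW_mem⟩
  have hMM : (M : Matrix.SpecialLinearGroup (Fin 2) F) * M = -1 := by
    rcases (SL3.mem_commutator_iff hF _).1 M.2 with h | h | h
    · exfalso
      have := congrArg (fun N : Matrix.SpecialLinearGroup (Fin 2) F => (N : Matrix (Fin 2) (Fin 2) F) 0 1) h
      simp [M, BlockModule.gW] at this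
    · exfalso
      have := congrArg (fun N : Matrix.SpecialLinearGroup (Fin 2) F => (N : Matrix (Fin 2) (Fin 2) F) 0 1) h
      simp [M, BlockModule.gW] at this
    · exact h
  obtain ⟨e, hec, k, hek⟩ := exists_coprime_preimage f M
  have hek' : ((f (QuotientGroup.mk e) : ↥(commutator _)) : Matrix.SpecialLinearGroup (Fin 2) F) *
      f (QuotientGroup.mk e) = -1 := by
    rw [hek, SubgroupClass.coe_pow, ← pow_add, ← two_mul, pow_mul, pow_two, hMM]
    exact (hp ▸ (by decide : Odd 3)).pow.neg_one_pow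
  refine ⟨e, ⟨Or.inr ⟨hp, h8⟩, e.2, hec, fun h => ?_, fun y hy => ?_, hW, fun _ => ?_, fun _ => ?_,
    fun _ y hy => ?_⟩⟩
  · have h1 := (mem_core_iff (e * e)).1 h
    rw [QuotientGroup.mk_mul] at h1
    have h2 := congrArg (fun q => ((f q : ↥(commutator _)) : Matrix.SpecialLinearGroup (Fin 2) F)) h1
    simp only [map_mul, Subgroup.coe_mul, map_one, Subgroup.coe_one, hek'] at h2
    exact hne h2
  · refine (mem_core_iff (⁅(⟨y, hy⟩ : ↥E), e * e⁆)).2 (f.injective ?_)
    rw [← QuotientGroup.mk'_apply, map_commutatorElement, map_one, map_commutatorElement, map_mul, map_mul,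
      commutatorElement_eq_one_iff_mul_comm]
    refine Subtype.ext ?_
    simp only [Subgroup.coe_mul, QuotientGroup.mk'_apply, hek']
    simp
  · refine (mem_core_iff (e * e * (e * e))).2 (f.injective (Subtype.ext ?_))
    rw [QuotientGroup.mk_mul, QuotientGroup.mk_mul, map_mul, map_mul, Subgroup.coe_mul, Subgroup.coe_mul, hek',
      map_one, Subgroup.coe_one, neg_mul_neg, one_mul]
  · obtain ⟨a, b, hab⟩ := SL3.exists_noncomm hF
    obtain ⟨x, hx⟩ := QuotientGroup.mk_surjective (f.symm a)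
    obtain ⟨y, hy⟩ := QuotientGroup.mk_surjective (f.symm b)
    refine ⟨x, x.2, y, y.2, fun hc => hab ?_⟩
    have h1 := (mem_core_iff ⁅x, y⁆).1 hc
    rw [← QuotientGroup.mk'_apply, map_commutatorElement, QuotientGroup.mk'_apply, QuotientGroup.mk'_apply, hx, hy,
      commutatorElement_eq_one_iff_mul_comm] at h1
    simpa using congrArg f h1
  · rcases (SL3.mem_commutator_iff hF _).1 (f (QuotientGroup.mk ⟨y, hy⟩)).2 with h | h | h
    · exact Or.inl ((mem_core_iff ⟨y, hy⟩).2 (f.injective (by rw [map_one]; exact Subtype.ext h)))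
    · refine Or.inr (Or.inl ((mem_core_iff (⟨y, hy⟩ * (e * e)⁻¹)).2 (f.injective ?_)))
      rw [QuotientGroup.mk_mul, QuotientGroup.mk_inv, QuotientGroup.mk_mul, map_one, map_mul, map_inv, map_mul,
        mul_inv_eq_one]
      exact Subtype.ext (by rw [Subgroup.coe_mul, hek', h])
    · refine Or.inr (Or.inr ((mem_core_iff (⟨y, hy⟩ * ⟨y, hy⟩ * (e * e)⁻¹)).2 (f.injective ?_)))
      rw [QuotientGroup.mk_mul, QuotientGroup.mk_inv, QuotientGroup.mk_mul, QuotientGroup.mk_mul, map_one,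
        map_mul, map_inv, map_mul, map_mul, mul_inv_eq_one]
      exact Subtype.ext (by rw [Subgroup.coe_mul, Subgroup.coe_mul, hek', h])

theorem index_eq_card_range {A B : Type*} [Group A] [Group B] (ψ : A →* B) (H : Subgroup A)
    (h : ∀ a, ψ a = 1 ↔ a ∈ H) : H.index = Nat.card ↥ψ.range := by
  rw [show H = ψ.ker from Subgroup.ext fun a => (h a).symm.trans MonoidHom.mem_ker.symm, index_ker]

theorem card_even_three : Nat.card {v : Fin 3 → ZMod 2 // ∑ i, v i = 0} = 2 ^ 2 := by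
  rw [Nat.card_eq_fintype_card]
  decide

/-- The two kinds of blocks. -/
theorem perf_or_solv (hE : IsBaumannBlock p T E) : Perf p E ∨ ∃ s, Solv p E s := by
  classical
  haveI := CfsgLib.Cores.pCore_characteristic (G := ↥E) p
  obtain ⟨-, -, -, -, hcases⟩ := id hE
  rcases hcases with ⟨F, _, _, n, hn, ⟨f⟩, ⟨-, -, ρ, ψ, -, hψ, hker, -⟩, -⟩ |
    ⟨hp, m, ⟨f⟩, ⟨-, -, ρ, ψ, -, hψ1, hψ2, hker, -⟩, -⟩
  · have hW : ((bZ p E).subgroupOf (bW p E)).index = Fintype.card F ^ 2 := by
      rw [index_eq_card_range ψ _ hker, MonoidHom.range_eq_top.2 hψ, Subgroup.card_top,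
        Nat.card_congr Multiplicative.toAdd, Nat.card_eq_fintype_card, Fintype.card_fun, Fintype.card_fin]
    by_cases h4 : 4 ≤ Fintype.card F
    · left
      have htop := CfsgLib.Classical.SmallIso.commutator_sl_two (F := F) h4
      let g := f.trans ((MulEquiv.subgroupCongr htop).trans Subgroup.topEquiv)
      refine ⟨Cores.isQuasisimple_of_equiv g.symm
        (Components.SLBlock.isQuasisimple_SL (Or.inr ⟨Fintype.card_fin 2, h4⟩)), ?_⟩
      rw [Nat.card_congr g.toEquiv]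
      let u : Matrix.SpecialLinearGroup (Fin 2) F := BlockModule.uU 1
      have hu : ∀ k : ℕ, u ^ k = BlockModule.uU (k : F) := by
        intro k
        induction k with
        | zero => ext i j; fin_cases i <;> fin_cases j <;> simp [BlockModule.uU]
        | succ k ih =>
          rw [pow_succ, ih]
          ext i j
          simp only [Matrix.SpecialLinearGroup.coe_mul]
          fin_cases i <;> fin_cases j <;>
            simp [u, BlockModule.uU, Matrix.mul_apply, Fin.sum_univ_two, add_comm]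
      have hpF : (p : F) = 0 := by
        have h0 : ((Fintype.card F : ℕ) : F) = 0 := FiniteField.cast_card_eq_zero F
        rw [hn, Nat.cast_pow] at h0
        exact pow_eq_zero_iff (fun h => by rw [h, pow_zero] at hn; omega) |>.1 h0
      have hu1 : u ≠ 1 := fun h => by
        have h1 := congrArg (fun N : Matrix.SpecialLinearGroup (Fin 2) F => (N : Matrix (Fin 2) (Fin 2) F) 0 1) h
        simp [u, BlockModule.uU] at h1
      have hup : u ^ p = 1 := by
        rw [hu, hpF]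
        ext i j
        fin_cases i <;> fin_cases j <;> simp [BlockModule.uU]
      exact orderOf_eq_prime hup hu1 ▸ orderOf_dvd_natCard u
    · right
      have hn' : Fintype.card F = 2 ∨ Fintype.card F = 3 := by
        have := Fintype.one_lt_card (α := F); omega
      have hn1 : n ≠ 0 := by rintro rfl; rw [pow_zero] at hn; omega
      rcases hn' with h | h
      · have hp : p = 2 := (Nat.prime_dvd_prime_iff_eq (Fact.out) Nat.prime_two).1
          (h ▸ hn ▸ dvd_pow_self p hn1)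
        exact solv_three hp (by rw [Nat.card_congr f.toEquiv, SL3.card_commutator_two h]) (by rw [hW, h, hp])
      · have hp : p = 3 := (Nat.prime_dvd_prime_iff_eq (Fact.out) Nat.prime_three).1
          (h ▸ hn ▸ dvd_pow_self p hn1)
        exact solv_quat h hp f (by rw [hW, h, hp])
  · subst hp
    rcases Nat.lt_or_ge m 2 with hm | hm
    · interval_cases m
      · exfalso
        refine not_isPGroup hE ((CfsgLib.LocalEven.isPGroup_pCoreOf 2 E).to_le fun e he => ?_)
        refine (mem_core_iff ⟨e, he⟩).2 (f.injective (Subtype.ext (Equiv.ext fun i => ?_)))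
        exact Subsingleton.elim (α := Fin 1) _ _
      · right
        refine solv_three rfl ?_ ?_
        · rw [Nat.card_congr f.toEquiv, nat_card_alternatingGroup]
          simp [Fintype.card_fin, Nat.factorial]
        · rw [index_eq_card_range ψ _ hker]
          have hrange : (ψ.range : Set (Multiplicative (Fin (2 * 1 + 1) → ZMod 2))) =
              {v : Multiplicative (Fin (2 * 1 + 1) → ZMod 2) | ∑ i, Multiplicative.toAdd v i = 0} := by
            ext v
            constructor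
            · rintro ⟨u, rfl⟩; exact hψ1 u
            · intro hv
              obtain ⟨u, hu⟩ := hψ2 _ hv
              exact ⟨u, Multiplicative.toAdd.injective hu⟩
          rw [← SetLike.coe_sort_coe, hrange]
          show Nat.card {v : Fin 3 → ZMod 2 // ∑ i, v i = 0} = 2 ^ 2
          exact card_even_three
    · left
      have h5 : 5 ≤ Nat.card (Fin (2 * m + 1)) := by simp; omega
      haveI := alternatingGroup.isSimpleGroup h5
      refine ⟨Cores.isQuasisimple_of_equiv f.symm (Components.Alt.isQuasisimple_of_simple (alternatingGroup.isSimpleGroup h5)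
        (alternatingGroup.center_eq_bot (by simp; omega))), ?_⟩
      haveI : Nontrivial (Fin (2 * m + 1)) := Fin.nontrivial_iff_two_le.2 (by omega)
      rw [Nat.card_congr f.toEquiv, nat_card_alternatingGroup, Nat.card_fin,
        Nat.dvd_div_iff_mul_dvd (Nat.dvd_factorial two_pos (by omega))]
      exact (Nat.dvd_factorial (by norm_num) (by omega : 4 ≤ 2 * m + 1))

end CfsgLib.LocalEven.SubBlock
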