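import Mathlib
import Cfsg.Agent.Lib.LocalEven.SubBlock.Data

/-!
The exceptional blocks.
-/

set_option autoImplicit false

namespace CfsgLib.LocalEven.SubBlock

open Subgroup Cfsg Matrix
open scoped Pointwise commutatorElement

variable {G : Type*} [Group G] [Finite G] {p : ℕ} [Fact p.Prime]

omit [Finite G] [Fact p.Prime] in
/-- A natural section is irreducible. -/
theorem irreducible_of_action {F : Type} [Field F] [Fintype F] {E U U₀ : Subgroup G}
    (h : ActsAsSL2OnSection F (commutator (Matrix.SpecialLinearGroup (Fin 2) F)) E U U₀) :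
    (∀ Y : Subgroup G, U₀ ≤ Y → Y ≤ U → E ≤ normalizer (Y : Set G) → Y = U₀ ∨ Y = U) ∧
      (U₀.subgroupOf U).index = Fintype.card F ^ 2 := by
  obtain ⟨-, hU0, ρ, ψ, hρ, hψ, hker, heq⟩ := h
  refine ⟨fun Y h0 hY hEY => ?_, ?_⟩
  swap
  · rw [index_eq_card_range ψ _ hker, MonoidHom.range_eq_top.2 hψ, Subgroup.card_top,
      Nat.card_congr Multiplicative.toAdd, Nat.card_eq_fintype_card, Fintype.card_fun, Fintype.card_fin]
  let N : AddSubgroup (Fin 2 → F) :=
    { carrier := {v | ∃ u : ↥U, (u : G) ∈ Y ∧ Multiplicative.toAdd (ψ u) = v}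
      add_mem' := fun {x y} ⟨a, ha, ea⟩ ⟨b, hb, eb⟩ =>
        ⟨a * b, mul_mem ha hb, by rw [map_mul, toAdd_mul, ea, eb]⟩
      zero_mem' := ⟨1, one_mem Y, by rw [map_one, toAdd_one]⟩
      neg_mem' := fun {x} ⟨a, ha, ea⟩ => ⟨a⁻¹, inv_mem ha, by rw [map_inv, toAdd_inv, ea]⟩ }
  have hNi : ∀ r ∈ commutator (Matrix.SpecialLinearGroup (Fin 2) F), ∀ v ∈ N,
      ((r : Matrix.SpecialLinearGroup (Fin 2) F) : Matrix (Fin 2) (Fin 2) F) *ᵥ v ∈ N := by
    rintro r hr v ⟨u, hu, rfl⟩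
    obtain ⟨e, rfl⟩ := MonoidHom.mem_range.1 (hρ.ge hr)
    obtain ⟨w, hw, hw'⟩ := heq e u
    exact ⟨w, hw ▸ Baumann.conj_mem_of_le_normalizer hEY e.2 hu, hw'⟩
  rcases BlockModule.irreducible_sl2 N hNi with h | h
  · refine Or.inl (le_antisymm (fun y hy => ?_) h0)
    have h1 : Multiplicative.toAdd (ψ ⟨y, hY hy⟩) ∈ N := ⟨⟨y, hY hy⟩, hy, rfl⟩
    rw [h, AddSubgroup.mem_bot] at h1
    exact (hker ⟨y, hY hy⟩).1 (Multiplicative.toAdd.injective (by rw [h1, toAdd_one]))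
  · refine Or.inr (le_antisymm hY fun x hx => ?_)
    obtain ⟨u, hu, he⟩ := (h ▸ AddSubgroup.mem_top _ : Multiplicative.toAdd (ψ ⟨x, hx⟩) ∈ N)
    have h1 : ψ (u⁻¹ * ⟨x, hx⟩) = 1 := by
      rw [map_mul, map_inv, Multiplicative.toAdd.injective he, inv_mul_cancel]
    have h2 := mul_mem hu (h0 ((hker _).1 h1))
    rwa [Subgroup.coe_mul, InvMemClass.coe_inv, mul_inv_cancel_left] at h2

/-- The kernel of a natural section is `O_p`. -/
theorem free_of_action {F : Type} [Field F] [Fintype F] {E U U₀ : Subgroup G}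
    (h : ActsAsSL2OnSection F (commutator (Matrix.SpecialLinearGroup (Fin 2) F)) E U U₀)
    (iso : Nonempty (↥E ⧸ pCore p ↥E ≃* ↥(commutator (Matrix.SpecialLinearGroup (Fin 2) F))))
    (hQ : ∀ e ∈ pCoreOf p E, ∀ u ∈ U, ⁅u, e⁆ ∈ U₀) (hUN : U ≤ normalizer (U₀ : Set G)) :
    ∀ e ∈ E, (∀ u ∈ U, ⁅u, e⁆ ∈ U₀) → e ∈ pCoreOf p E := by
  obtain ⟨-, hU0, ρ, ψ, hρ, hψ, hker, heq⟩ := h
  have hfix : ∀ e : ↥E, (∀ u ∈ U, ⁅u, (e : G)⁆ ∈ U₀) → ρ e = 1 := by
    intro e he
    apply Subtype.ext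
    rw [Matrix.SpecialLinearGroup.coe_one]
    refine Matrix.ext_of_mulVec_single fun i => ?_
    rw [Matrix.one_mulVec]
    obtain ⟨u, hu⟩ := hψ (Multiplicative.ofAdd (Pi.single i 1))
    obtain ⟨w, hw, hw'⟩ := heq e u
    have hwu : ψ w = ψ u := by
      rw [← mul_inv_eq_one, ← map_inv, ← map_mul, hker, Subgroup.coe_mul, InvMemClass.coe_inv, hw]
      have h1 := inv_mem (he _ u.2)
      rw [commutatorElement_inv] at h1
      rwa [show (e : G) * u * (e : G)⁻¹ * (u : G)⁻¹ = ⁅(e : G), (u : G)⁆ from rfl]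
    rw [hwu, hu, toAdd_ofAdd] at hw'
    exact hw'.symm
  haveI := CfsgLib.Cores.pCore_characteristic (G := ↥E) p
  have hQle : pCore p ↥E ≤ ρ.ker := fun e he =>
    MonoidHom.mem_ker.2 (hfix e fun u hu => hQ _ ⟨e, he, rfl⟩ u hu)
  have hcard : pCore p ↥E = ρ.ker := by
    refine eq_of_le_of_card_ge hQle ?_
    obtain ⟨f⟩ := iso
    have h1 : (pCore p ↥E).index = ρ.ker.index := by
      rw [index, Nat.card_congr f.toEquiv, index_ker, hρ]
    have h2 := card_mul_index (pCore p ↥E)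
    have h3 := card_mul_index ρ.ker
    rw [h1] at h2
    exact le_of_eq (Nat.eq_of_mul_eq_mul_right (Nat.pos_of_ne_zero index_ne_zero_of_finite) (h3.trans h2.symm))
  intro e he hc
  exact ⟨⟨e, he⟩, hcard.ge (MonoidHom.mem_ker.2 (hfix ⟨e, he⟩ hc)), rfl⟩

/-- The facts about an exceptional block. -/
structure Exc (p : ℕ) (T E : Subgroup G) : Prop where
  three : p = 3
  derived : ⁅pCoreOf p E, pCoreOf p E⁆ = bZ p E
  frat : (frattini ↥(pCoreOf p E)).map (pCoreOf p E).subtype = bZ p E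
  center : E ⊓ centralizer (E : Set G) = bZ p E
  irr : ∀ Y : Subgroup G, bW p E ≤ Y → Y ≤ pCoreOf p E → E ≤ normalizer (Y : Set G) →
    Y = bW p E ∨ Y = pCoreOf p E
  cardZ : Nat.card ↥(bZ p E) ^ 2 = ((bZ p E).subgroupOf (bW p E)).index
  free : ∀ e ∈ E, (∀ q ∈ pCoreOf p E, ⁅q, e⁆ ∈ bW p E) → e ∈ pCoreOf p E
  index_eq : ((bW p E).subgroupOf (pCoreOf p E)).index = ((bZ p E).subgroupOf (bW p E)).index
  nonquad : ∀ b : G, b ∈ baumannSubgroupOf p T → b ∉ centralizer (bW p E : Set G) →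
    ¬ ⁅⁅pCoreOf p E, zpowers b⁆, zpowers b⁆ ≤ bZ p E

theorem core_eq_or_exc {T E : Subgroup G} (hE : IsBaumannBlock p T E) :
    pCoreOf p E = bW p E ∨ Exc p T E := by
  obtain ⟨-, -, -, -, hcases⟩ := id hE
  rcases hcases with ⟨F, _, _, n, hn, iso, hWsec, hQ | ⟨hp, hQsec, h1, h2, h3, h5, h4⟩⟩ | ⟨-, m, -, -, hQ⟩
  · exact Or.inl hQ
  · exact Or.inr
      { three := hp
        derived := h1
        frat := h2
        center := h3
        irr := (irreducible_of_action hQsec).1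
        cardZ := by
          rw [(irreducible_of_action hWsec).2, hn, hp, show bZ 3 E = E ⊓ centralizer (E : Set G) from (hp ▸ h3).symm, h5]
        free := free_of_action hQsec iso
          (fun e he u hu => (inf_le_left : bZ p E ≤ bW p E) (h1.le (commutator_mem_commutator hu he)))
          ((CfsgLib.LocalEven.pCoreOf_le p E).trans (le_normalizer_bW E))
        index_eq := (irreducible_of_action hQsec).2.trans (irreducible_of_action hWsec).2.symm
        nonquad := fun b hb hc hq => h4 b hb hc (hq.trans_eq h3.symm) }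
  · exact Or.inl hQ

end CfsgLib.LocalEven.SubBlock
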