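import Mathlib
import Cfsg.Agent.Lib.LocalEven.SubBlock.Exceptional
import Cfsg.Agent.Lib.LocalEven.SubnormalCore

/-!
Two subnormal blocks with commuting images commute; the non-solvable case.
-/

set_option autoImplicit false

namespace CfsgLib.LocalEven.SubBlock

open Subgroup Cfsg
open scoped Pointwise commutatorElement

variable {G : Type*} [Group G] [Finite G] {p : ℕ} [Fact p.Prime] {T T' : Sylow p G} {E F : Subgroup G}

theorem eq_of_sup_eq (hE : IsBaumannBlock p (T : Subgroup G) E) (hF : IsBaumannBlock p (T' : Subgroup G) F)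
    (h : E ⊔ pCore p G = F ⊔ pCore p G) : E = F := by
  rw [← Block.pResidualOf_sup_eq (CfsgLib.Cores.isPGroup_pCore p) (Block.pCore_le_normalizer hE) hE.1, h,
    Block.pResidualOf_sup_eq (CfsgLib.Cores.isPGroup_pCore p) (Block.pCore_le_normalizer hF) hF.1]

theorem le_of_le_sup (hE : IsBaumannBlock p (T : Subgroup G) E) {X : Subgroup G}
    (hX : pResidualOf p X = X) (h : X ≤ E ⊔ pCore p G) : X ≤ E := by
  rw [← hX, ← Block.pResidualOf_sup_eq (CfsgLib.Cores.isPGroup_pCore p) (Block.pCore_le_normalizer hE) hE.1]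
  exact Baumann.pResidualOf_le_iff.2 fun x hx hc => Baumann.pResidualOf_le_iff.1 le_rfl x (h hx) hc

/-- Elements commuting with `E` modulo `O_p(G)` normalise `E`. -/
theorem mem_normalizer_of_comm (hE : IsBaumannBlock p (T : Subgroup G) E) {f : G}
    (h : ∀ e ∈ E, ⁅f, e⁆ ∈ pCore p G) : f ∈ normalizer (E : Set G) := by
  refine CfsgLib.LocalEven.mem_normalizer_of_conj_le ?_
  rw [map_le_iff_le_comap]
  conv_lhs => rw [← hE.1]
  refine Baumann.pResidualOf_le_iff.2 fun e he hc => ?_
  show f * e * f⁻¹ ∈ E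
  have hf : (orderOf (f * e * f⁻¹)).Coprime p := by
    rwa [← MulAut.conj_apply, MulEquiv.orderOf_eq]
  have h1 : f * e * f⁻¹ ∈ E ⊔ pCore p G := by
    rw [conj_eq_comm_mul]
    exact mul_mem (mem_sup_right (h e he)) (mem_sup_left he)
  exact (Block.pResidualOf_sup_eq (CfsgLib.Cores.isPGroup_pCore p) (Block.pCore_le_normalizer hE) hE.1).le
    (Baumann.pResidualOf_le_iff.1 le_rfl _ h1 hf)

theorem le_normalizer_of_commutator_le (hE : IsBaumannBlock p (T : Subgroup G) E) {X : Subgroup G}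
    (h : ⁅E, X⁆ ≤ pCore p G) : X ≤ normalizer (E : Set G) :=
  fun x hx => mem_normalizer_of_comm hE fun e he => by
    rw [← commutatorElement_inv]; exact inv_mem (h (commutator_mem_commutator he hx))

theorem commutator_le_core (hE : IsBaumannBlock p (T : Subgroup G) E) {X : Subgroup G}
    (h : ⁅E, X⁆ ≤ pCore p G) : ⁅E, X⁆ ≤ pCoreOf p E :=
  CfsgLib.LocalEven.le_pCoreOf
    (CfsgLib.Solvable.commutator_le_of_le_normalizer (le_normalizer_of_commutator_le hE h))
    ((CfsgLib.Cores.isPGroup_pCore p).to_le h) (CfsgLib.Solvable.le_normalizer_commutator_left E X)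

/-- Commuting images and trivial action on `O_p(E)/Z` give commuting blocks. -/
theorem commutator_eq_bot_of_core (hE : IsBaumannBlock p (T : Subgroup G) E)
    (hF : IsBaumannBlock p (T' : Subgroup G) F) (hEF : ⁅E, F⁆ ≤ pCore p G)
    (h : ⁅pCoreOf p E, F⁆ ≤ bZ p E) : ⁅E, F⁆ = ⊥ := by
  have hFn := le_normalizer_of_commutator_le hE hEF
  have hQ := CfsgLib.LocalEven.isPGroup_pCoreOf p E
  have h1 : ⁅E, F⁆ ≤ bZ p E :=
    commutator_le_of_coprime hQ hF.1 (commutator_le_core hE hEF) h (hFn.trans (normalizer_le_bZ E))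
      ((CfsgLib.LocalEven.pCoreOf_le p E).trans (le_normalizer_bZ E))
  rw [commutator_comm]
  exact commutator_eq_bot_of_coprime ((isPGroup_bW E).to_le inf_le_left) hE.1
    ((commutator_comm F E).trans_le h1) (commutator_eq_bot_iff_le_centralizer.2 inf_le_right)

/-- A perfect top is generated by its `p`-elements. -/
theorem Perf.generated (hF : Perf p F) :
    F ≤ closure {f | f ∈ F ∧ IsPGroup p ↥(zpowers f)} ⊔ pCoreOf p F := by
  classical
  haveI := CfsgLib.Cores.pCore_characteristic (G := ↥F) p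
  set π := QuotientGroup.mk' (pCore p ↥F) with hπ
  set S : Set (↥F ⧸ pCore p ↥F) := {x | IsPGroup p ↥(zpowers x)} with hS
  haveI hn : (closure S).Normal := by
    constructor
    intro x hx g
    induction hx using closure_induction with
    | mem y hy =>
      refine subset_closure ?_
      show IsPGroup p ↥(zpowers (g * y * g⁻¹))
      rw [show g * y * g⁻¹ = (MulAut.conj g).toMonoidHom y from rfl, ← MonoidHom.map_zpowers]
      exact IsPGroup.map hy _
    | one => simp
    | mul a b _ _ ha hb =>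
      rw [show g * (a * b) * g⁻¹ = g * a * g⁻¹ * (g * b * g⁻¹) by group]
      exact mul_mem ha hb
    | inv a _ ha =>
      rw [show g * a⁻¹ * g⁻¹ = (g * a * g⁻¹)⁻¹ by group]
      exact inv_mem ha
  have htop : closure S = ⊤ := by
    refine (CfsgLib.Cores.normal_eq_top_or_le_center_of_isQuasisimple hF.1 _).resolve_right fun hc => ?_
    obtain ⟨P⟩ : Nonempty (Sylow p (↥F ⧸ pCore p ↥F)) := inferInstance
    have hPc : (P : Subgroup (↥F ⧸ pCore p ↥F)) ≤ Subgroup.center _ := fun x hx =>
      hc (subset_closure (P.2.to_le (zpowers_le.2 hx)))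
    haveI : (P : Subgroup (↥F ⧸ pCore p ↥F)).Normal := ⟨fun x hx g => by
      rw [mem_center_iff.1 (hPc hx) g, mul_inv_cancel_right]; exact hx⟩
    have h1 := CfsgLib.Cores.le_pCore P.2
    rw [CfsgLib.Cores.pCore_quotient_self, le_bot_iff] at h1
    exact P.ne_bot_of_dvd_card hF.2 h1
  set H := closure {f | f ∈ F ∧ IsPGroup p ↥(zpowers f)} with hH
  intro f hf
  have hmem : π ⟨f, hf⟩ ∈ ((H ⊔ pCoreOf p F).subgroupOf F).map π := by
    have : closure S ≤ ((H ⊔ pCoreOf p F).subgroupOf F).map π := by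
      rw [closure_le]
      intro x hx
      obtain ⟨y, rfl⟩ := QuotientGroup.mk_surjective x
      obtain ⟨k, m, hm, hkm⟩ := Nat.exists_eq_pow_mul_and_not_dvd (orderOf_pos y).ne' p (Fact.out : p.Prime).ne_one
      obtain ⟨j, hj⟩ := IsPGroup.iff_orderOf.1 hx ⟨_, mem_zpowers _⟩
      rw [Subgroup.orderOf_mk] at hj
      obtain ⟨i, hi⟩ := exists_pow_eq_self_of_coprime (x := (QuotientGroup.mk y : ↥F ⧸ pCore p ↥F)) (n := m)
        (hj ▸ (((Fact.out : p.Prime).coprime_iff_not_dvd.2 hm).symm.pow_right j))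
      refine ⟨(y ^ m) ^ i, ?_, by rw [hπ, QuotientGroup.mk'_apply, QuotientGroup.mk_pow, QuotientGroup.mk_pow, hi]⟩
      refine mem_sup_left (subset_closure ⟨((y ^ m) ^ i).2, ?_⟩)
      refine IsPGroup.of_card_dvd_pow (n := k) ?_
      rw [Nat.card_zpowers, Subgroup.coe_subtype, orderOf_coe]
      refine orderOf_dvd_of_pow_eq_one ?_
      rw [← pow_mul, ← pow_mul, show m * (i * p ^ k) = (p ^ k * m) * i by ring, ← hkm, pow_mul,
        pow_orderOf_eq_one, one_pow]
    exact this (htop.ge (mem_top _))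
  obtain ⟨y, hy, hyf⟩ := hmem
  rw [hπ, QuotientGroup.mk'_apply, QuotientGroup.mk'_apply, QuotientGroup.eq] at hyf
  have h2 : (y : G)⁻¹ * f ∈ pCoreOf p F := ⟨_, hyf, rfl⟩
  have h3 := mul_mem (mem_subgroupOf.1 hy) (mem_sup_right (S := H) h2)
  rwa [mul_inv_cancel_left] at h3

theorem commutator_sup_le {W Z A B : Subgroup G} (hAZ : ⁅W, A⁆ ≤ Z) (hBZ : ⁅W, B⁆ ≤ Z)
    (hA : A ≤ normalizer (Z : Set G)) (hB : B ≤ normalizer (Z : Set G)) : ⁅W, A ⊔ B⁆ ≤ Z := by
  refine commutator_le_of_generators (S := (A : Set G) ∪ B) (sup_le hA hB) ?_ ?_ fun x hx f hf => ?_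
  · rw [Subgroup.closure_union, closure_eq, closure_eq]
  · rintro f (hf | hf)
    exacts [mem_sup_left hf, mem_sup_right hf]
  · rcases hf with hf | hf
    exacts [hAZ (commutator_mem_commutator hx hf), hBZ (commutator_mem_commutator hx hf)]

/-- The non-solvable block centralises the other one. -/
theorem commutator_eq_bot_of_perf (hE : IsBaumannBlock p (T : Subgroup G) E) (hEs : E.IsSubnormal)
    (hF : IsBaumannBlock p (T' : Subgroup G) F) (hFs : F.IsSubnormal) (hEF : ⁅E, F⁆ ≤ pCore p G)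
    (hFp : Perf p F) : ⁅E, F⁆ = ⊥ := by
  have hFE : F ≤ normalizer (E : Set G) := le_normalizer_of_commutator_le hE hEF
  have hEFQ := commutator_le_core hE hEF
  refine commutator_eq_bot_of_core hE hF hEF ?_
  -- `F` centralises the irreducible factors of `O_p(E)`
  have key : ∀ U Z : Subgroup G, (∀ a ∈ U, ∀ b ∈ U, ⁅a, b⁆ ∈ Z) → Z ≤ U → U ≤ pCoreOf p E →
      F ≤ normalizer (U : Set G) → F ≤ normalizer (Z : Set G) →
      E ≤ normalizer (U : Set G) → E ≤ normalizer (Z : Set G) →
      (∀ Y : Subgroup G, Z ≤ Y → Y ≤ U → E ≤ normalizer (Y : Set G) → Y = Z ∨ Y = U) →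
      (∀ q ∈ pCoreOf p E, ∀ u ∈ U, ⁅q, u⁆ ∈ Z) → ⁅U, F⁆ ≤ Z := by
    intro U Z hab hZU hUQ hFU hFZ hEU hEZ hirr hcent
    have hP : ∀ P : Subgroup G, P ≤ F → IsPGroup p ↥P → ⁅U, P⁆ ≤ Z := fun P hPF hPp =>
      commutator_le_of_irreducible hab hZU ((CfsgLib.LocalEven.isPGroup_pCoreOf p E).to_le hUQ) hirr hPp
        (hPF.trans hFU) (hPF.trans hFZ) hEU hEZ
        fun e he q hq u hu => hcent _ (hEFQ (commutator_mem_commutator he (hPF hq))) u hu
    refine (commutator_mono le_rfl hFp.generated).trans (commutator_sup_le ?_ ?_ ?_ ?_)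
    · refine commutator_le_of_generators (S := {f | f ∈ F ∧ IsPGroup p ↥(zpowers f)})
        (((closure_le _).2 fun f hf => hf.1).trans hFZ) le_rfl subset_closure fun x hx f hf => ?_
      exact hP _ (zpowers_le.2 hf.1) hf.2 (commutator_mem_commutator hx (mem_zpowers f))
    · exact hP _ (CfsgLib.LocalEven.pCoreOf_le p F) (CfsgLib.LocalEven.isPGroup_pCoreOf p F)
    · exact ((closure_le _).2 fun f hf => hf.1).trans hFZ
    · exact (CfsgLib.LocalEven.pCoreOf_le p F).trans hFZ
  have hW : ⁅bW p E, F⁆ ≤ bZ p E :=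
    key (bW p E) (bZ p E) (fun a ha b hb => by rw [commutatorElement_eq_one_iff_mul_comm.2 (bW_comm ha hb)]; exact one_mem _)
      inf_le_left (bW_le_core E) (hFE.trans (normalizer_le_bW E)) (hFE.trans (normalizer_le_bZ E))
      (le_normalizer_bW E) (le_normalizer_bZ E) (BlockModule.isBlockModule_of_block hE).1
      fun q hq u hu => by rw [commutatorElement_eq_one_iff_mul_comm.2 (core_comm hq hu)]; exact one_mem _
  rcases core_eq_or_exc hE with h | h
  · rw [h]; exact hW
  have hab : ∀ a ∈ pCoreOf p E, ∀ b ∈ pCoreOf p E, ⁅a, b⁆ ∈ bW p E := fun a ha b hb =>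
    (inf_le_left : bZ p E ≤ bW p E) (h.derived.le (commutator_mem_commutator ha hb))
  have h1 : ⁅pCoreOf p E, F⁆ ≤ bW p E :=
    key (pCoreOf p E) (bW p E) hab (bW_le_core E) le_rfl (hFE.trans (Block.normalizer_le_pCoreOf E))
      (hFE.trans (normalizer_le_bW E)) (CfsgLib.LocalEven.le_normalizer_pCoreOf p E) (le_normalizer_bW E)
      h.irr hab
  exact commutator_le_of_coprime (isPGroup_bW E) hF.1 h1 hW (hFE.trans (normalizer_le_bZ E))
    ((bW_le E).trans (le_normalizer_bZ E))

/-- The image in `G/O_p(G)`. -/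
theorem image_equiv (hEs : E.IsSubnormal) :
    Nonempty (↥E ⧸ pCore p ↥E ≃* ↥(E.map (QuotientGroup.mk' (pCore p G)))) := by
  set π := (QuotientGroup.mk' (pCore p G)).comp E.subtype with hπ
  have hker : π.ker = pCore p ↥E := by
    refine le_antisymm ?_ fun e he => ?_
    · intro e he
      rw [MonoidHom.mem_ker, hπ, MonoidHom.comp_apply, QuotientGroup.mk'_apply, QuotientGroup.eq_one_iff] at he
      have h1 : (e : G) ∈ pCoreOf p E := CfsgLib.LocalEven.le_pCoreOf inf_le_left
        ((CfsgLib.Cores.isPGroup_pCore p).to_le inf_le_right) (by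
          haveI := CfsgLib.Cores.pCore_characteristic (G := G) p
          exact (le_inf le_normalizer (by rw [normalizer_eq_top]; exact le_top)).trans
            (Baumann.normalizer_inf_le E (pCore p G))) ⟨e.2, he⟩
      obtain ⟨y, hy, hye⟩ := h1
      rwa [← Subtype.ext (show (y : G) = e from hye)]
    · rw [MonoidHom.mem_ker, hπ, MonoidHom.comp_apply, QuotientGroup.mk'_apply, QuotientGroup.eq_one_iff]
      exact CfsgLib.LocalEven.Subn.pCoreOf_le_pCore (p := p) hEs ⟨e, he, rfl⟩
  have hrange : π.range = E.map (QuotientGroup.mk' (pCore p G)) := by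
    rw [hπ, MonoidHom.range_comp, range_subtype]
  exact ⟨(QuotientGroup.quotientMulEquivOfEq hker.symm).trans
    ((QuotientGroup.quotientKerEquivRange π).trans (MulEquiv.subgroupCongr hrange))⟩

theorem Perf.isComponent (hE : Perf p E) (hEs : E.IsSubnormal) :
    IsComponent (E.map (QuotientGroup.mk' (pCore p G))) :=
  ⟨hEs.map (QuotientGroup.mk'_surjective _),
    CfsgLib.Cores.isQuasisimple_of_equiv (image_equiv hEs).some hE.1⟩

theorem Solv.isSolvable_image {s : G} (hs : Solv p E s) (hEs : E.IsSubnormal) :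
    Group.IsSolvable ↥(E.map (QuotientGroup.mk' (pCore p G))) := by
  have hc := Nat.card_congr (image_equiv (p := p) hEs).some.toEquiv
  rcases hs.type with ⟨-, h⟩ | ⟨-, h⟩ <;> rw [h] at hc
  · haveI : Fact (Nat.Prime 3) := ⟨Nat.prime_three⟩
    haveI := (IsPGroup.of_card (p := 3) (n := 1) (by rw [← hc, pow_one])).isNilpotent
    infer_instance
  · haveI : Fact (Nat.Prime 2) := ⟨Nat.prime_two⟩
    haveI := (IsPGroup.of_card (p := 2) (n := 3) hc.symm).isNilpotent
    infer_instance

/-- A non-solvable block is equal to, or commutes modulo `O_p(G)` with, any other block. -/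
theorem perf_dichotomy (hE : IsBaumannBlock p (T : Subgroup G) E) (hEs : E.IsSubnormal)
    (hF : IsBaumannBlock p (T' : Subgroup G) F) (hFs : F.IsSubnormal) (hEp : Perf p E) :
    E = F ∨ ⁅E, F⁆ ≤ pCore p G := by
  set π := QuotientGroup.mk' (pCore p G) with hπ
  have hEc := hEp.isComponent hEs
  have hcomm : ⁅E.map π, F.map π⁆ = ⊥ → ⁅E, F⁆ ≤ pCore p G := fun h => by
    rwa [← map_commutator, Subgroup.map_eq_bot_iff, QuotientGroup.ker_mk'] at h
  rcases perf_or_solv hF with hFp | ⟨s, hs⟩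
  · by_cases heq : E.map π = F.map π
    · refine Or.inl (eq_of_sup_eq hE hF ?_)
      have := congrArg (Subgroup.comap π) heq
      rwa [comap_map_eq, comap_map_eq, hπ, QuotientGroup.ker_mk'] at this
    · exact Or.inr (hcomm (CfsgLib.Cores.commutator_components_eq_bot hEc (hFp.isComponent hFs) heq))
  · refine Or.inr (hcomm ((CfsgLib.Cores.component_le_or_commutator_eq_bot hEc
      (hFs.map (QuotientGroup.mk'_surjective _))).resolve_left
      (CfsgLib.Cores.component_not_le_of_isSolvable hEc (hs.isSolvable_image hFs))))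

theorem perf_case (hE : IsBaumannBlock p (T : Subgroup G) E) (hEs : E.IsSubnormal)
    (hF : IsBaumannBlock p (T' : Subgroup G) F) (hFs : F.IsSubnormal) (hp : Perf p E ∨ Perf p F) :
    E = F ∨ ⁅E, F⁆ = ⊥ := by
  rcases hp with h | h
  · rcases perf_dichotomy hE hEs hF hFs h with h1 | h1
    · exact Or.inl h1
    · refine Or.inr ?_
      rw [commutator_comm] at h1 ⊢
      exact commutator_eq_bot_of_perf hF hFs hE hEs h1 h
  · rcases perf_dichotomy hF hFs hE hEs h with h1 | h1
    · exact Or.inl h1.symm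
    · refine Or.inr ?_
      rw [commutator_comm] at h1
      exact commutator_eq_bot_of_perf hE hEs hF hFs h1 h

end CfsgLib.LocalEven.SubBlock
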