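import Mathlib
import Cfsg.Agent.Lib.LocalEven.SubBlock.Commute

/-!
Solvable subnormal blocks on the module `Ω₁(Z(O_p(G)))`.
-/

set_option autoImplicit false

namespace CfsgLib.LocalEven.SubBlock

open Subgroup Cfsg
open scoped Pointwise commutatorElement

variable {G : Type*} [Group G] {p : ℕ}

/-- The prime of the solvable tops. -/
def topPrime (p : ℕ) : ℕ := if p = 2 then 3 else 2

/-- `Ω₁(Z(O_p(G)))`. -/
abbrev bA (p : ℕ) (G : Type*) [Group G] : Subgroup G := omegaOneCenter p (pCore p G)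

/-- Abstract action data of a solvable block on a normal abelian subgroup. -/
structure AB (p : ℕ) (A E : Subgroup G) : Prop where
  subn : E.IsSubnormal
  card_eq : Nat.card ↥⁅A, E⁆ = p ^ 2
  irr : ∀ Y : Subgroup G, Y ≤ ⁅A, E⁆ → E ≤ normalizer (Y : Set G) → Y = ⊥ ∨ Y = ⁅A, E⁆
  free : ∃ s ∈ E, ∀ x ∈ ⁅A, E⁆, (s * s) * x = x * (s * s) → x = 1

section AB

variable {A : Subgroup G}

theorem AB.map {E : Subgroup G} [A.Normal] (h : AB p A E) (f : G) :
    AB p A (E.map (MulAut.conj f).toMonoidHom) := by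
  set c := (MulAut.conj f).toMonoidHom with hc
  have hA : A.map c = A := mem_normalizer_iff_map_conj_eq.1
    (by rw [normalizer_eq_top]; exact mem_top f)
  have hW : ⁅A, E.map c⁆ = (⁅A, E⁆).map c := by rw [map_commutator, hA]
  have hinj : Function.Injective c := (MulAut.conj f).injective
  refine ⟨h.subn.map (f := c) (MulAut.conj f).surjective, ?_, fun Y hY hN => ?_, ?_⟩
  · rw [hW, card_map_of_injective hinj, h.card_eq]
  · rw [hW] at hY ⊢
    obtain ⟨Y', rfl⟩ : ∃ Y', Y = Subgroup.map c Y' :=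
      ⟨Y.comap c, (map_comap_eq_self_of_surjective (MulAut.conj f).surjective Y).symm⟩
    rw [map_le_map_iff_of_injective hinj] at hY
    have hN' : E ≤ normalizer (Y' : Set G) := fun e he => by
      have h1 := hN (mem_map_of_mem c he)
      rw [mem_normalizer_iff] at h1 ⊢
      intro y
      have h2 := h1 (c y)
      rwa [← map_inv, ← map_mul, ← map_mul, mem_map_iff_mem hinj, mem_map_iff_mem hinj] at h2
    rcases h.irr Y' hY hN' with h1 | h1
    · exact Or.inl (by rw [h1, Subgroup.map_bot])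
    · exact Or.inr (by rw [h1])
  · obtain ⟨s, hs, hfree⟩ := h.free
    refine ⟨c s, mem_map_of_mem c hs, ?_⟩
    rw [hW]
    rintro _ ⟨x, hx, rfl⟩ hcomm
    rw [hfree x hx (hinj (by simpa only [map_mul] using hcomm)), map_one]

variable [Finite G] [Fact p.Prime]

omit [Fact p.Prime] in
theorem conj_mem_sup [A.Normal] {E F : Subgroup G} {w f : G} (hw : w ∈ ⁅A, E⁆) (hf : f ∈ F) :
    f * w * f⁻¹ ∈ ⁅A, E⁆ ⊔ ⁅A, F⁆ := by
  have hwA : w ∈ A := commutator_le_left A E hw
  rw [conj_eq_comm_mul, ← commutatorElement_inv]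
  exact mul_mem (mem_sup_right (inv_mem (commutator_mem_commutator hwA hf))) (mem_sup_left hw)

theorem eq_top_of_card {H K : Subgroup G} (h : H ≤ K) (hc : Nat.card ↥K ≤ Nat.card ↥H) : H = K :=
  eq_of_le_of_card_ge h hc

omit [Fact p.Prime] in
/-- Join of two abelian subgroups in an abelian group. -/
theorem card_sup_le {H K : Subgroup G} (hA : ∀ a ∈ A, ∀ b ∈ A, a * b = b * a) (hH : H ≤ A) (hK : K ≤ A) :
    Nat.card ↥(H ⊔ K) ≤ Nat.card ↥H * Nat.card ↥K := by
  have hn : H ≤ normalizer (K : Set G) := fun x hx =>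
    CfsgLib.LocalEven.mem_normalizer_of_conj_le (by
      rintro _ ⟨y, hy, rfl⟩
      show x * y * x⁻¹ ∈ K
      rw [hA x (hH hx) y (hK hy), mul_inv_cancel_right]; exact hy)
  let φ : ↥H × ↥K → ↥(H ⊔ K) := fun q => ⟨(q.1 : G) * q.2, mul_mem (mem_sup_left q.1.2) (mem_sup_right q.2.2)⟩
  rw [← Nat.card_prod]
  refine Nat.card_le_card_of_surjective φ ?_
  rintro ⟨x, hx⟩
  have h1 : x ∈ (↑(H ⊔ K) : Set G) := hx
  rw [coe_mul_of_left_le_normalizer_right H K hn] at h1
  obtain ⟨a, ha, b, hb, rfl⟩ := h1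
  exact ⟨(⟨a, ha⟩, ⟨b, hb⟩), rfl⟩

omit [Fact p.Prime] in
theorem card_mul_le_sup {H K : Subgroup G} (hd : H ⊓ K = ⊥) :
    Nat.card ↥H * Nat.card ↥K ≤ Nat.card ↥(H ⊔ K) := by
  let φ : ↥H × ↥K → ↥(H ⊔ K) := fun q => ⟨(q.1 : G) * q.2, mul_mem (mem_sup_left q.1.2) (mem_sup_right q.2.2)⟩
  rw [← Nat.card_prod]
  refine Nat.card_le_card_of_injective φ fun a b hab => ?_
  have := mul_injective_of_disjoint (disjoint_iff.2 hd) (a₁ := a) (a₂ := b) (congrArg Subtype.val hab)
  exact this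

/-- If all translates of `W = [A,E]` under `F` are `W` or centralised by `E`, then `W = [A,F]` or `F` centralises `W`. -/
theorem AB.one_side [A.Normal] (hA : ∀ a ∈ A, ∀ b ∈ A, a * b = b * a) {E F : Subgroup G}
    (hE : AB p A E) (hF : AB p A F)
    (h : ∀ f ∈ F, (⁅A, E⁆).map (MulAut.conj f).toMonoidHom = ⁅A, E⁆ ∨
      ⁅(⁅A, E⁆).map (MulAut.conj f).toMonoidHom, E⁆ = ⊥) :
    ⁅A, E⁆ = ⁅A, F⁆ ∨ ⁅⁅A, E⁆, F⁆ = ⊥ := by
  classical
  set W := ⁅A, E⁆ with hW
  set W' := ⁅A, F⁆ with hW'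
  have hWA : W ≤ A := commutator_le_left A E
  have hW'A : W' ≤ A := commutator_le_left A F
  have hpW : 1 < p ^ 2 := Nat.one_lt_pow two_ne_zero (Fact.out : p.Prime).one_lt
  have hfix : ∀ x ∈ W, (∀ e ∈ E, e * x = x * e) → x = 1 := fun x hx hc => by
    obtain ⟨s, hs, hfree⟩ := hE.free
    exact hfree x hx (hc _ (mul_mem hs hs))
  -- `F` normalises `W`
  have hFW : ∀ f ∈ F, W.map (MulAut.conj f).toMonoidHom = W := by
    intro f0 hf0
    by_contra hne
    set W0 := W.map (MulAut.conj f0).toMonoidHom with hW0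
    have hW0E : ⁅W0, E⁆ = ⊥ := (h f0 hf0).resolve_left hne
    have hW0c : ∀ x ∈ W0, ∀ e ∈ E, e * x = x * e := fun x hx e he =>
      mem_centralizer_iff.1 (commutator_eq_bot_iff_le_centralizer.1 hW0E hx) e he
    have hd : W ⊓ W0 = ⊥ := eq_bot_iff.2 fun x hx => mem_bot.2 (hfix x hx.1 (hW0c x hx.2))
    have hW0A : W0 ≤ A := by
      rintro _ ⟨x, hx, rfl⟩
      exact (inferInstance : A.Normal).conj_mem x (hWA hx) f0
    have hcW0 : Nat.card ↥W0 = p ^ 2 := by
      rw [hW0, card_map_of_injective (MulAut.conj f0).injective, hE.card_eq]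
    have hW0le : W0 ≤ W ⊔ W' := by
      rintro _ ⟨x, hx, rfl⟩
      exact conj_mem_sup hx hf0
    have hU : W ⊔ W0 = W ⊔ W' := by
      refine eq_of_le_of_card_ge (sup_le le_sup_left hW0le) ?_
      refine (card_sup_le hA hWA hW'A).trans (le_trans (le_of_eq ?_) (card_mul_le_sup hd))
      rw [hcW0, hF.card_eq]
    have hcases : ∀ f ∈ F, W.map (MulAut.conj f).toMonoidHom = W ∨ W.map (MulAut.conj f).toMonoidHom = W0 := by
      intro f hf
      refine (h f hf).imp_right fun hc => eq_of_le_of_card_ge ?_ ?_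
      · intro y hy
        have hyU : y ∈ W ⊔ W0 := by
          obtain ⟨x, hx, rfl⟩ := hy
          rw [hU]
          exact conj_mem_sup hx hf
        have h1 : y ∈ (↑(W ⊔ W0) : Set G) := hyU
        rw [coe_mul_of_left_le_normalizer_right W W0 (fun x hx => CfsgLib.LocalEven.mem_normalizer_of_conj_le (by
          rintro _ ⟨u, hu, rfl⟩
          show x * u * x⁻¹ ∈ W0
          rw [hA x (hWA hx) u (hW0A hu), mul_inv_cancel_right]; exact hu))] at h1
        obtain ⟨a, ha, b, hb, rfl⟩ := h1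
        have ha1 : a = 1 := hfix a ha fun e he => by
          have h2 := mem_centralizer_iff.1 (commutator_eq_bot_iff_le_centralizer.1 hc hy) e he
          calc e * a = (e * (a * b)) * b⁻¹ := by group
            _ = (a * b * e) * b⁻¹ := by rw [h2]
            _ = a * (b * e) * b⁻¹ := by group
            _ = a * (e * b) * b⁻¹ := by rw [hW0c b hb e he]
            _ = a * e := by group
        show a * b ∈ W0
        rw [ha1, one_mul]; exact hb
      · rw [hcW0, card_map_of_injective (MulAut.conj f).injective, hE.card_eq]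
    obtain ⟨s, hs, hfree⟩ := hF.free
    have hcomp : ∀ f g : G, W.map (MulAut.conj (f * g)).toMonoidHom =
        (W.map (MulAut.conj g).toMonoidHom).map (MulAut.conj f).toMonoidHom := fun f g => by
      rw [Subgroup.map_map]
      congr 1
      ext x
      simp [mul_assoc]
    have hgW : W.map (MulAut.conj (s * s)).toMonoidHom = W := by
      rcases hcases _ (mul_mem hs hs) with h1 | h1
      · exact h1
      · exfalso
        rcases hcases s hs with h2 | h2
        · rw [hcomp, h2, h2] at h1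
          exact hne h1.symm
        · rw [hcomp, h2] at h1
          have h3 : W.map (MulAut.conj s).toMonoidHom = W0 := h2
          rw [← h3] at h1
          rw [map_injective (MulAut.conj s).injective |>.eq_iff] at h1
          rw [h3] at h1
          exact hne h1
    have hW'W : W ⊓ W' = ⊥ := by
      rw [eq_bot_iff]
      intro x hx
      let ψ : ↥W → ↥W' := fun u => ⟨⁅(u : G), f0⁆, commutator_mem_commutator (hWA u.2) hf0⟩
      have key : ∀ u : ↥W, ⁅(u : G), f0⁆ ∈ W → (u : G) = 1 := by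
        intro u hu
        have h1 : f0 * (u : G) * f0⁻¹ ∈ W := by
          rw [conj_eq_comm_mul, ← commutatorElement_inv]
          exact mul_mem (inv_mem hu) u.2
        have h2 : f0 * (u : G) * f0⁻¹ ∈ W0 := ⟨u, u.2, rfl⟩
        have h3 : f0 * (u : G) * f0⁻¹ ∈ W ⊓ W0 := ⟨h1, h2⟩
        rw [hd, mem_bot] at h3
        exact conj_eq_one_iff.1 h3
      have hinj : Function.Injective ψ := by
        intro u v huv
        have h1 : ⁅(u : G), f0⁆ = ⁅(v : G), f0⁆ := congrArg Subtype.val huv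
        have h2 : ⁅((v⁻¹ * u : ↥W) : G), f0⁆ = 1 := by
          rw [Subgroup.coe_mul, InvMemClass.coe_inv, show ⁅(v : G)⁻¹ * u, f0⁆ = (v : G)⁻¹ * (⁅(u : G), f0⁆ * ⁅(v : G), f0⁆⁻¹) * v by
            simp only [commutatorElement_def]; group, h1, mul_inv_cancel, mul_one, inv_mul_cancel]
        exact (inv_mul_eq_one.1 (Subtype.ext (key _ (by rw [h2]; exact one_mem W)))).symm
      have hsurj := (hinj.bijective_of_nat_card_le (by rw [hE.card_eq, hF.card_eq])).2
      obtain ⟨u, hu⟩ := hsurj ⟨x, hx.2⟩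
      have hu' : ⁅(u : G), f0⁆ = x := congrArg Subtype.val hu
      rw [mem_bot, ← hu', key u (hu'.symm ▸ hx.1), commutatorElement_one_left]
    -- the square centralises `W` and `W0`
    have hcent : ∀ X : Subgroup G, X ≤ A → X ⊓ W' = ⊥ → X.map (MulAut.conj (s * s)).toMonoidHom = X →
        ∀ x ∈ X, (s * s) * x = x * (s * s) := by
      intro X hXA hXd hXs x hx
      rw [← commutatorElement_eq_one_iff_mul_comm]
      refine mem_bot.1 (hXd.le (Subgroup.mem_inf.2 ⟨?_, ?_⟩))
      · have h1 : (s * s) * x * (s * s)⁻¹ ∈ X := hXs.le ⟨x, hx, rfl⟩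
        rw [commutatorElement_def]
        exact mul_mem h1 (inv_mem hx)
      · rw [← commutatorElement_inv]
        exact inv_mem (commutator_mem_commutator (hXA hx) (mul_mem hs hs))
    have hsW' : ∀ t : G, t ∈ F → W'.map (MulAut.conj t).toMonoidHom = W' := fun t ht =>
      mem_normalizer_iff_map_conj_eq.1 ((CfsgLib.Solvable.le_normalizer_commutator_right
        (by rw [normalizer_eq_top]; exact le_top)) ht)
    have hW0W' : W0 ⊓ W' = ⊥ := by
      have h1 := congrArg (Subgroup.map (MulAut.conj f0).toMonoidHom) hW'W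
      rwa [Subgroup.map_bot, map_inf _ _ _ (MulAut.conj f0).injective, hsW' f0 hf0] at h1
    have hgW0 : W0.map (MulAut.conj (s * s)).toMonoidHom = W0 := by
      have h1 := hcases (s * s * f0) (mul_mem (mul_mem hs hs) hf0)
      rw [hcomp] at h1
      refine h1.resolve_left fun h2 => ?_
      conv_rhs at h2 => rw [← hgW]
      rw [map_injective (MulAut.conj (s * s)).injective |>.eq_iff] at h2
      exact hne h2
    have h3 : W' ≤ centralizer ({s * s} : Set G) := by
      refine (le_sup_right : W' ≤ W ⊔ W').trans (hU.symm.le.trans (sup_le ?_ ?_)) <;> intro x hx <;>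
        refine mem_centralizer_iff.2 fun y hy => ?_ <;> rw [Set.mem_singleton_iff.1 hy]
      · exact hcent W hWA hW'W hgW x hx
      · exact hcent W0 hW0A hW0W' hgW0 x hx
    have h4 : W' = ⊥ := eq_bot_iff.2 fun x hx =>
      mem_bot.2 (hfree x hx (mem_centralizer_iff.1 (h3 hx) _ rfl))
    have h5 : Nat.card ↥W' = p ^ 2 := hF.card_eq
    rw [h4, Subgroup.card_bot] at h5
    omega
  have hFn : F ≤ normalizer (W : Set G) := fun f hf => mem_normalizer_iff_map_conj_eq.2 (hFW f hf)
  have hle : ⁅W, F⁆ ≤ W' := commutator_mono hWA le_rfl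
  rcases hF.irr ⁅W, F⁆ hle (CfsgLib.Solvable.le_normalizer_commutator_right hFn) with h1 | h1
  · exact Or.inr h1
  · refine Or.inl (eq_of_le_of_card_ge ?_ (by rw [hE.card_eq, hF.card_eq])).symm
    exact (le_of_eq h1.symm).trans (CfsgLib.Solvable.commutator_le_of_le_normalizer hFn)

/-- Two solvable blocks have equal or mutually centralised modules. -/
theorem AB.dichotomy [A.Normal] (hA : ∀ a ∈ A, ∀ b ∈ A, a * b = b * a) :
    ∀ (n : ℕ) (E F : Subgroup G), Nat.card ↥(E ⊔ F) = n → AB p A E → AB p A F →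
      ⁅A, E⁆ = ⁅A, F⁆ ∨ (⁅⁅A, E⁆, F⁆ = ⊥ ∧ ⁅⁅A, F⁆, E⁆ = ⊥) := by
  intro n
  induction n using Nat.strong_induction_on with
  | _ n ih =>
    intro E F hn hE hF
    have side : ∀ E F : Subgroup G, Nat.card ↥(E ⊔ F) = n → AB p A E → AB p A F →
        ⁅A, E⁆ = ⁅A, F⁆ ∨ ⁅⁅A, E⁆, F⁆ = ⊥ := by
      intro E F hn hE hF
      by_cases hFE : F ≤ E
      · exact Or.inl (eq_of_le_of_card_ge (commutator_mono le_rfl hFE) (by rw [hE.card_eq, hF.card_eq])).symm
      refine AB.one_side hA hE hF fun f hf => ?_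
      set H := E ⊔ F with hH
      have hne : E.subgroupOf H ≠ ⊤ := fun h => hFE (le_sup_right.trans (subgroupOf_eq_top.1 h))
      obtain ⟨M, hM, hEM, hMlt⟩ := hE.subn.subgroupOf.exists_normal_and_le_and_lt_top_of_ne hne
      have hE1 : E ≤ M.map H.subtype := fun e he =>
        ⟨⟨e, mem_sup_left he⟩, hEM (show (⟨e, mem_sup_left he⟩ : ↥H) ∈ E.subgroupOf H from he), rfl⟩
      have hE2 : E.map (MulAut.conj f).toMonoidHom ≤ M.map H.subtype := by
        rintro _ ⟨e, he, rfl⟩
        exact ⟨_, hM.conj_mem _ (hEM (show (⟨e, mem_sup_left he⟩ : ↥H) ∈ E.subgroupOf H from he))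
          ⟨f, mem_sup_right hf⟩, rfl⟩
      have hlt : Nat.card ↥(E ⊔ E.map (MulAut.conj f).toMonoidHom) < n := by
        refine lt_of_le_of_lt (card_le_of_le (sup_le hE1 hE2)) ?_
        rw [card_map_of_injective H.subtype_injective, ← hn]
        refine lt_of_le_of_ne (card_le_card_group M) fun h => hMlt.ne (eq_top_of_card_eq M h)
      have hWmap : (⁅A, E⁆).map (MulAut.conj f).toMonoidHom = ⁅A, E.map (MulAut.conj f).toMonoidHom⁆ := by
        have hA' : A.map (MulAut.conj f).toMonoidHom = A :=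
          mem_normalizer_iff_map_conj_eq.1 (by rw [normalizer_eq_top]; exact mem_top f)
        rw [map_commutator, hA']
      rcases ih _ hlt E _ rfl hE (hE.map f) with h1 | ⟨-, h1⟩
      · exact Or.inl (hWmap.trans h1.symm)
      · exact Or.inr (hWmap ▸ h1)
    rcases side E F hn hE hF with h1 | h1
    · exact Or.inl h1
    rcases side F E (by rw [sup_comm]; exact hn) hF hE with h2 | h2
    · exact Or.inl h2.symm
    exact Or.inr ⟨h1, h2⟩

end AB

variable [Finite G] [Fact p.Prime] {T T' : Sylow p G} {E F : Subgroup G}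

theorem bA_normal : (bA p G).Normal := by
  haveI := CfsgLib.Cores.pCore_characteristic (G := G) p
  refine normalizer_eq_top_iff.1 (top_le_iff.1 ?_)
  refine le_trans ?_ (CfsgLib.LocalEven.Oz.normalizer_le (pCore p G))
  rw [normalizer_eq_top]

omit [Finite G] [Fact p.Prime] in
theorem bA_comm : ∀ a ∈ bA p G, ∀ b ∈ bA p G, a * b = b * a := fun _ ha _ hb =>
  (CfsgLib.LocalEven.Oz.mem_iff.1 hb).2.1 _ (CfsgLib.LocalEven.Oz.le_self _ ha)

omit [Finite G] [Fact p.Prime] in
theorem bA_le : bA p G ≤ pCore p G := CfsgLib.LocalEven.Oz.le_self _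

omit [Finite G] [Fact p.Prime] in
theorem bA_central {a v : G} (ha : a ∈ bA p G) (hv : v ∈ pCore p G) : v * a = a * v :=
  (CfsgLib.LocalEven.Oz.mem_iff.1 ha).2.1 v hv

theorem bWE_le_bA (hG : centralizer (pCore p G : Set G) ≤ pCore p G)
    (hE : IsBaumannBlock p (T : Subgroup G) E) : bWE p E ≤ bA p G := (Block.block_position hG hE).2.1

theorem commutator_bA (hG : centralizer (pCore p G : Set G) ≤ pCore p G)
    (hE : IsBaumannBlock p (T : Subgroup G) E) (hEs : E.IsSubnormal) : ⁅bA p G, E⁆ = bWE p E := by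
  haveI := bA_normal (p := p) (G := G)
  have hQV : pCoreOf p E ≤ pCore p G := CfsgLib.LocalEven.Subn.pCoreOf_le_pCore hEs
  refine le_antisymm ?_ ?_
  · have h0 : ⁅E, bA p G⁆ ≤ pCore p G := (commutator_le_right E (bA p G)).trans bA_le
    have h1 : ⁅bA p G, E⁆ ≤ bW p E := by
      intro x hx
      have hxA : x ∈ bA p G := commutator_le_left _ _ hx
      have hxQ : x ∈ pCoreOf p E := commutator_le_core hE h0 (by rwa [commutator_comm])
      exact CfsgLib.LocalEven.Oz.mem_iff.2 ⟨hxQ, fun q hq => bA_central hxA (hQV hq),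
        (CfsgLib.LocalEven.Oz.mem_iff.1 hxA).2.2⟩
    exact commutator_le_of_coprime (isPGroup_bW E) hE.1 h1 le_rfl (le_normalizer_bWE E)
      ((bW_le E).trans (le_normalizer_bWE E))
  · exact (bWE_commutator hE).symm.le.trans (commutator_mono (bWE_le_bA hG hE) le_rfl)

theorem bW_eq_of_core (hE : IsBaumannBlock p (T : Subgroup G) E) (h : pCoreOf p E = bW p E) :
    bW p E = bWE p E := by
  have := hE.2.2.1
  rw [h] at this
  exact this.symm

theorem bW_le_bA (hG : centralizer (pCore p G : Set G) ≤ pCore p G)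
    (hE : IsBaumannBlock p (T : Subgroup G) E) (hZ : bZ p E ≤ bA p G) : bW p E ≤ bA p G := by
  rw [← bWE_sup hE]
  exact sup_le (bWE_le_bA hG hE) hZ

theorem Solv.irr (hE : IsBaumannBlock p (T : Subgroup G) E) {s : G} (hs : Solv p E s) (Y : Subgroup G)
    (hY : Y ≤ bWE p E) (hN : E ≤ normalizer (Y : Set G)) : Y = ⊥ ∨ Y = bWE p E := by
  rcases (BlockModule.isBlockModule_of_block hE).1 (Y ⊔ bZ p E) le_sup_right
      (sup_le (hY.trans (bWE_le E)) inf_le_left) (sup_bZ_normalized hN) with h | h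
  · refine Or.inl (eq_bot_iff.2 fun y hy => ?_)
    rw [← hs.bWE_inf hE]
    exact Subgroup.mem_inf.2 ⟨hY hy, (Subgroup.mem_inf.1 (h.le (mem_sup_left hy))).2⟩
  · refine Or.inr (le_antisymm hY ?_)
    show ⁅bW p E, E⁆ ≤ Y
    rw [commutator_le]
    intro x hx e he
    obtain ⟨y, hy, z, hz, rfl⟩ := exists_mul_of_sup (hY.trans (bWE_le E)) (h.ge hx)
    rw [commutator_mul_bZ hz he, commutatorElement_def, mul_assoc, mul_assoc]
    exact mul_mem hy (by simpa [mul_assoc] using Baumann.conj_mem_of_le_normalizer hN he (inv_mem hy))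

theorem Solv.ab (hG : centralizer (pCore p G : Set G) ≤ pCore p G)
    (hE : IsBaumannBlock p (T : Subgroup G) E) (hEs : E.IsSubnormal) {s : G} (hs : Solv p E s) :
    AB p (bA p G) E := by
  refine ⟨hEs, ?_, ?_, s, hs.mem, ?_⟩
  · rw [commutator_bA hG hE hEs]; exact hs.card_bWE hE
  · rw [commutator_bA hG hE hEs]; exact hs.irr hE
  · rw [commutator_bA hG hE hEs]; exact fun x hx h => hs.fixed_eq_one hE hx h

theorem solv_dichotomy (hG : centralizer (pCore p G : Set G) ≤ pCore p G)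
    (hE : IsBaumannBlock p (T : Subgroup G) E) (hEs : E.IsSubnormal) {s : G} (hs : Solv p E s)
    (hF : IsBaumannBlock p (T' : Subgroup G) F) (hFs : F.IsSubnormal) {t : G} (ht : Solv p F t) :
    bWE p E = bWE p F ∨ (⁅bWE p E, F⁆ = ⊥ ∧ ⁅bWE p F, E⁆ = ⊥) := by
  haveI := bA_normal (p := p) (G := G)
  rw [← commutator_bA hG hE hEs, ← commutator_bA hG hF hFs]
  exact AB.dichotomy bA_comm _ E F rfl (hs.ab hG hE hEs) (ht.ab hG hF hFs)

/-! ### The action on `W_E` -/

theorem Solv.mem_core_of_fixed (hE : IsBaumannBlock p (T : Subgroup G) E) {s : G} (hs : Solv p E s)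
    {e w : G} (he : e ∈ E) (hw : w ∈ bWE p E) (hw1 : w ≠ 1) (h : e * w = w * e) : e ∈ pCoreOf p E := by
  classical
  by_contra hne
  have hQc : ∀ q ∈ pCoreOf p E, q * w = w * q := fun q hq => core_comm hq (bWE_le E hw)
  have hg : ¬ (s * s) * w = w * (s * s) := fun hc => hw1 (hs.fixed_eq_one hE hw hc)
  rcases hs.type with ⟨-, h3⟩ | ⟨hp, -⟩
  · haveI := CfsgLib.Cores.pCore_characteristic (G := ↥E) p
    haveI : Fact (Nat.Prime 3) := ⟨Nat.prime_three⟩
    obtain ⟨k, hk⟩ := mem_powers_of_prime_card h3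
      (g := (QuotientGroup.mk (⟨e, he⟩ : ↥E) : ↥E ⧸ pCore p ↥E))
      (g' := QuotientGroup.mk (⟨s, hs.mem⟩ * ⟨s, hs.mem⟩ : ↥E))
      (fun h1 => hne ((mem_core_iff ⟨e, he⟩).2 h1))
    simp only [← QuotientGroup.mk_pow, QuotientGroup.eq] at hk
    have h4 : (e ^ k)⁻¹ * (s * s) ∈ pCoreOf p E := ⟨_, hk, by simp⟩
    refine hg ?_
    have hck : e ^ k * w = w * e ^ k := (show Commute e w from h).pow_left k
    have h5 := hQc _ h4
    calc s * s * w = e ^ k * ((e ^ k)⁻¹ * (s * s) * w) := by group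
      _ = e ^ k * w * ((e ^ k)⁻¹ * (s * s)) := by rw [h5]; group
      _ = w * e ^ k * ((e ^ k)⁻¹ * (s * s)) := by rw [hck]
      _ = w * (s * s) := by group
  · have hee : e * e * w = w * (e * e) := ((show Commute e w from h).mul_left (show Commute e w from h)).eq
    have aux : ∀ x : G, x * w = w * x → x * (s * s)⁻¹ ∈ pCoreOf p E → False := by
      intro x hx hxq
      refine hg ?_
      have h5 := hQc _ hxq
      have h6 : (x * (s * s)⁻¹)⁻¹ * w = w * (x * (s * s)⁻¹)⁻¹ :=
        ((show Commute (x * (s * s)⁻¹) w from h5).inv_left).eq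
      generalize s * s = g at h6 ⊢
      calc g * w = (x * g⁻¹)⁻¹ * (x * w) := by group
        _ = (x * g⁻¹)⁻¹ * w * x := by rw [hx]; group
        _ = w * (x * g⁻¹)⁻¹ * x := by rw [h6]
        _ = w * g := by group
    rcases hs.quat hp e he with h1 | h1 | h1
    exacts [hne h1, aux e h h1, aux (e * e) hee h1]

theorem Solv.transitive (hE : IsBaumannBlock p (T : Subgroup G) E) {s : G} (hs : Solv p E s)
    {w x : G} (hw : w ∈ bWE p E) (hw1 : w ≠ 1) (hx : x ∈ bWE p E) (hx1 : x ≠ 1) :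
    ∃ e ∈ E, e * w * e⁻¹ = x := by
  classical
  haveI := CfsgLib.Cores.pCore_characteristic (G := ↥E) p
  let ψ : ↥E ⧸ pCore p ↥E → {y : ↥(bWE p E) // y ≠ 1} := fun q =>
    Quotient.liftOn' q (fun e => ⟨⟨(e : G) * w * (e : G)⁻¹,
        Baumann.conj_mem_of_le_normalizer (le_normalizer_bWE E) e.2 hw⟩, fun h => hw1 (by
          simpa [conj_eq_one_iff] using congrArg Subtype.val h)⟩)
      (fun a b hab => by
        rw [QuotientGroup.leftRel_apply] at hab
        refine Subtype.ext (Subtype.ext ?_)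
        have h1 := core_comm (p := p) (E := E) (show ((a⁻¹ * b : ↥E) : G) ∈ pCoreOf p E from ⟨_, hab, rfl⟩)
          (bWE_le E hw)
        simp only [Subgroup.coe_mul, InvMemClass.coe_inv] at h1
        show (a : G) * w * (a : G)⁻¹ = (b : G) * w * (b : G)⁻¹
        calc (a : G) * w * (a : G)⁻¹ = (a : G) * (w * ((a : G)⁻¹ * b)) * (b : G)⁻¹ := by group
          _ = (a : G) * ((a : G)⁻¹ * b * w) * (b : G)⁻¹ := by rw [← h1]
          _ = (b : G) * w * (b : G)⁻¹ := by group)
  have hinj : Function.Injective ψ := by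
    intro a b
    induction a using QuotientGroup.induction_on with
    | H a =>
      induction b using QuotientGroup.induction_on with
      | H b =>
        intro hab
        have h1 : (a : G) * w * (a : G)⁻¹ = (b : G) * w * (b : G)⁻¹ :=
          congrArg (fun y => ((y.1 : ↥(bWE p E)) : G)) hab
        rw [QuotientGroup.eq]
        have h2 : ((a : G)⁻¹ * b) * w = w * ((a : G)⁻¹ * b) := by
          calc ((a : G)⁻¹ * b) * w = (a : G)⁻¹ * ((b : G) * w * (b : G)⁻¹) * b := by group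
            _ = (a : G)⁻¹ * ((a : G) * w * (a : G)⁻¹) * b := by rw [h1]
            _ = w * ((a : G)⁻¹ * b) := by group
        obtain ⟨y, hy, hye⟩ := hs.mem_core_of_fixed hE (mul_mem (inv_mem a.2) b.2) hw hw1 h2
        rwa [show a⁻¹ * b = y from Subtype.ext hye.symm]
  have hcard : Nat.card {y : ↥(bWE p E) // y ≠ 1} ≤ Nat.card (↥E ⧸ pCore p ↥E) := by
    have h1 : Nat.card {y : ↥(bWE p E) // y ≠ 1} = Nat.card ↥(bWE p E) - 1 := by
      haveI : Fintype ↥(bWE p E) := Fintype.ofFinite _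
      rw [Nat.card_eq_fintype_card, Nat.card_eq_fintype_card, Fintype.card_subtype_compl,
        Fintype.card_subtype_eq]
    rw [h1, hs.card_bWE hE]
    rcases hs.type with ⟨hp, h⟩ | ⟨hp, h⟩ <;> subst hp <;> rw [h] <;> norm_num
  obtain ⟨q, hq⟩ := (hinj.bijective_of_nat_card_le hcard).2 ⟨⟨x, hx⟩, fun h => hx1 (congrArg Subtype.val h)⟩
  obtain ⟨e, rfl⟩ := QuotientGroup.mk_surjective q
  exact ⟨e, e.2, congrArg (fun y => ((y.1 : ↥(bWE p E)) : G)) hq⟩

theorem Solv.inverts (hE : IsBaumannBlock p (T : Subgroup G) E) {s : G} (hs : Solv p E s) (hp : p = 3)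
    {x : G} (hx : x ∈ bWE p E) : (s * s) * x * (s * s)⁻¹ = x⁻¹ := by
  have hgE := hs.pow_data.1
  have h1 : (s * s) * x * (s * s)⁻¹ ∈ bWE p E :=
    Baumann.conj_mem_of_le_normalizer (le_normalizer_bWE E) hgE hx
  have h2 := core_comm (hs.inv2 hp) (bWE_le E hx)
  have hy : x * ((s * s) * x * (s * s)⁻¹) = 1 := by
    refine hs.fixed_eq_one hE (mul_mem hx h1) ?_
    have hc := bW_comm (bWE_le E hx) (bWE_le E h1)
    generalize s * s = g at h2 hc ⊢
    calc g * (x * (g * x * g⁻¹)) = (g * x * g⁻¹) * (g * g * x) * g⁻¹ := by group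
      _ = (g * x * g⁻¹) * (x * (g * g)) * g⁻¹ := by rw [h2]
      _ = (g * x * g⁻¹ * x) * g := by group
      _ = x * (g * x * g⁻¹) * g := by rw [← hc]
  exact eq_inv_of_mul_eq_one_right hy

/-- Blocks with the same module induce the same group on it. -/
theorem same_image (hE : IsBaumannBlock p (T : Subgroup G) E) {s : G} (hs : Solv p E s)
    (hF : IsBaumannBlock p (T' : Subgroup G) F) {t : G} (ht : Solv p F t) (hW : bWE p E = bWE p F)
    {f : G} (hf : f ∈ F) : ∃ e ∈ E, e⁻¹ * f ∈ centralizer (bWE p E : Set G) := by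
  classical
  by_cases hfQ : f ∈ pCoreOf p F
  · refine ⟨1, one_mem E, ?_⟩
    rw [inv_one, one_mul]
    exact mem_centralizer_iff.2 fun x hx => (core_comm hfQ (bWE_le F (hW ▸ hx))).symm
  by_cases hfz : p = 3 ∧ f * (t * t)⁻¹ ∈ pCoreOf p F
  · refine ⟨s * s, hs.pow_data.1, mem_centralizer_iff.2 fun x hx => ?_⟩
    have hxF : x ∈ bWE p F := hW ▸ hx
    have h1 := core_comm hfz.2 (bWE_le F (inv_mem hxF))
    have h2 := ht.inverts hF hfz.1 hxF
    have h3 := hs.inverts hE hfz.1 hx
    have h4 : f * x * f⁻¹ = x⁻¹ := by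
      calc f * x * f⁻¹ = (f * (t * t)⁻¹) * ((t * t) * x * (t * t)⁻¹) * (f * (t * t)⁻¹)⁻¹ := by group
        _ = x⁻¹ := by rw [h2, h1, mul_inv_cancel_right]
    calc x * ((s * s)⁻¹ * f) = (s * s)⁻¹ * ((s * s) * x * (s * s)⁻¹) * f := by group
      _ = (s * s)⁻¹ * (f * x * f⁻¹) * f := by rw [h3, h4]
      _ = (s * s)⁻¹ * f * x := by group
  -- generic element: it has no fixed point on `W`
  haveI : Nontrivial ↥(bWE p E) := by
    rw [← Finite.one_lt_card_iff_nontrivial, hs.card_bWE hE]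
    exact Nat.one_lt_pow two_ne_zero (Fact.out : p.Prime).one_lt
  obtain ⟨⟨w, hw⟩, hw1'⟩ := exists_ne (1 : ↥(bWE p E))
  have hw1 : w ≠ 1 := fun h => hw1' (Subtype.ext h)
  have hwF : w ∈ bWE p F := hW ▸ hw
  set x := f * w * f⁻¹ with hxdef
  have hxF : x ∈ bWE p F := Baumann.conj_mem_of_le_normalizer (le_normalizer_bWE F) hf hwF
  have hx : x ∈ bWE p E := hW ▸ hxF
  have hx1 : x ≠ 1 := fun h => hw1 (conj_eq_one_iff.1 h)
  obtain ⟨e, he, hew⟩ := hs.transitive hE hw hw1 hx hx1
  have hxw : x ≠ w := fun h => hfQ (ht.mem_core_of_fixed hF hf hwF hw1 (mul_inv_eq_iff_eq_mul.1 h))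
  refine ⟨e, he, ?_⟩
  have key : e * x * e⁻¹ = f * x * f⁻¹ := by
    rcases hs.type with ⟨hp, -⟩ | ⟨hp, -⟩
    · -- four elements
      have hcard : Nat.card ↥(bWE p E) = 4 := by rw [hs.card_bWE hE, hp]; norm_num
      have hfour : ∀ y ∈ bWE p E, y ≠ 1 → y ≠ w → y ≠ x → y = w * x := by
        intro y hy h1 h2 h3
        by_contra h4
        haveI : Fintype ↥(bWE p E) := Fintype.ofFinite _
        have h5 : ({1, ⟨w, hw⟩, ⟨x, hx⟩, ⟨w, hw⟩ * ⟨x, hx⟩, ⟨y, hy⟩} : Finset ↥(bWE p E)).card = 5 := by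
          have hwx : w * x ≠ 1 := fun h => by
            have h6 := (CfsgLib.LocalEven.Oz.elemAb (p := p) (pCoreOf p E)).2 w (bWE_le E hw)
            rw [hp, pow_two] at h6
            exact hxw (mul_left_cancel (h.trans h6.symm))
          rw [Finset.card_insert_of_notMem (by simp [Subtype.ext_iff, hw1.symm, hx1.symm, hwx.symm, h1.symm]),
            Finset.card_insert_of_notMem (by simp [Subtype.ext_iff, hxw.symm, hx1, Ne.symm h2]),
            Finset.card_insert_of_notMem (by simp [Subtype.ext_iff, hw1, Ne.symm h3]),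
            Finset.card_insert_of_notMem (by simp [Subtype.ext_iff, Ne.symm h4]), Finset.card_singleton]
        have h6 := Finset.card_le_univ ({1, ⟨w, hw⟩, ⟨x, hx⟩, ⟨w, hw⟩ * ⟨x, hx⟩, ⟨y, hy⟩} : Finset ↥(bWE p E))
        rw [h5, ← Nat.card_eq_fintype_card, hcard] at h6
        omega
      have step : ∀ g : G, g ∈ normalizer (bWE p E : Set G) → g * w * g⁻¹ = x →
          (∀ y ∈ bWE p E, y ≠ 1 → g * y = y * g → False) → g * x * g⁻¹ = w * x := by
        intro g hg hgw hfree
        have hgx : g * x * g⁻¹ ∈ bWE p E := (mem_normalizer_iff.1 hg x).1 hx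
        refine hfour _ hgx (fun h => hx1 (conj_eq_one_iff.1 h)) (fun h => ?_) (fun h => ?_)
        · have hwxE : w * x ∈ bWE p E := mul_mem hw hx
          refine hfree _ hwxE (fun h0 => hxw ?_) (mul_inv_eq_iff_eq_mul.1 ?_)
          · have h6 := (CfsgLib.LocalEven.Oz.elemAb (p := p) (pCoreOf p E)).2 w (bWE_le E hw)
            rw [hp, pow_two] at h6
            exact mul_left_cancel (h0.trans h6.symm)
          · calc g * (w * x) * g⁻¹ = (g * w * g⁻¹) * (g * x * g⁻¹) := by group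
              _ = x * w := by rw [hgw, h]
              _ = w * x := bW_comm (bWE_le E hx) (bWE_le E hw)
        · exact hfree x hx hx1 (mul_inv_eq_iff_eq_mul.1 h)
      rw [step e (le_normalizer_bWE E he) hew ?_, step f (hW ▸ le_normalizer_bWE F hf) rfl ?_]
      · exact fun y hy hy1 hc => hfQ (ht.mem_core_of_fixed hF hf (hW ▸ hy) hy1 hc)
      · intro y hy hy1 hc
        have := core_comm (hs.mem_core_of_fixed hE he hy hy1 hc) (bWE_le E hw)
        exact hxw (hew ▸ (mul_inv_eq_iff_eq_mul.2 this))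
    · have hsq : ∀ {F' : Subgroup G} {T'' : Sylow p G} {t' : G}, IsBaumannBlock p (T'' : Subgroup G) F' →
          Solv p F' t' → ∀ {g : G}, g ∈ F' → w ∈ bWE p F' → g * w * g⁻¹ = x → g ∉ pCoreOf p F' →
          g * (t' * t')⁻¹ ∉ pCoreOf p F' → g * x * g⁻¹ = w⁻¹ := by
        intro F' T'' t' hF' ht' g hg hwF' hgw h1 h2
        have h3 := ((ht'.quat hp g hg).resolve_left h1).resolve_left h2
        have h4 := core_comm h3 (bWE_le F' (inv_mem hwF'))
        calc g * x * g⁻¹ = g * g * w * (g * g)⁻¹ := by rw [← hgw]; group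
          _ = (g * g * (t' * t')⁻¹) * ((t' * t') * w * (t' * t')⁻¹) * (g * g * (t' * t')⁻¹)⁻¹ := by group
          _ = w⁻¹ := by rw [ht'.inverts hF' hp hwF', h4, mul_inv_cancel_right]
      have he1 : e ∉ pCoreOf p E := fun h => hxw (hew ▸ mul_inv_eq_iff_eq_mul.2 (core_comm h (bWE_le E hw)))
      have hfz' : f * (t * t)⁻¹ ∉ pCoreOf p F := fun h => hfz ⟨hp, h⟩
      have he2 : e * (s * s)⁻¹ ∉ pCoreOf p E := by
        intro h
        have h4 := core_comm h (bWE_le E (inv_mem hw))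
        have h5 : x = w⁻¹ := by
          rw [← hew]
          calc e * w * e⁻¹ = (e * (s * s)⁻¹) * ((s * s) * w * (s * s)⁻¹) * (e * (s * s)⁻¹)⁻¹ := by group
            _ = w⁻¹ := by rw [hs.inverts hE hp hw, h4, mul_inv_cancel_right]
        have h6 := ht.inverts hF hp hwF
        refine hfz' ?_
        have h7 : (t * t)⁻¹ * f ∈ pCoreOf p F := by
          refine ht.mem_core_of_fixed hF (mul_mem (inv_mem ht.pow_data.1) hf) hwF hw1 ?_
          calc (t * t)⁻¹ * f * w = (t * t)⁻¹ * x * f := by rw [hxdef]; group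
            _ = (t * t)⁻¹ * ((t * t) * w * (t * t)⁻¹) * f := by rw [h5, h6]
            _ = w * ((t * t)⁻¹ * f) := by group
        have h8 := Baumann.conj_mem_of_le_normalizer (CfsgLib.LocalEven.le_normalizer_pCoreOf p F)
          ht.pow_data.1 h7
        rwa [show t * t * ((t * t)⁻¹ * f) * (t * t)⁻¹ = f * (t * t)⁻¹ by group] at h8
      rw [hsq hE hs he hw hew he1 he2, hsq hF ht hf hwF rfl hfQ hfz']
  -- two fixed vectors generate
  set k := e⁻¹ * f with hk
  have hkw : k * w = w * k := by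
    calc k * w = e⁻¹ * (f * w * f⁻¹) * f := by rw [hk]; group
      _ = e⁻¹ * (e * w * e⁻¹) * f := by rw [hew]
      _ = w * k := by rw [hk]; group
  have hkx : k * x = x * k := by
    calc k * x = e⁻¹ * (f * x * f⁻¹) * f := by rw [hk]; group
      _ = e⁻¹ * (e * x * e⁻¹) * f := by rw [key]
      _ = x * k := by rw [hk]; group
  set C := bWE p E ⊓ centralizer ({k} : Set G) with hC
  have hmem : ∀ y ∈ bWE p E, k * y = y * k → y ∈ C := fun y hy h =>
    ⟨hy, mem_centralizer_iff.2 fun z hz => by rw [Set.mem_singleton_iff.1 hz]; exact h⟩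
  have hCW : C = bWE p E := by
    refine eq_of_le_of_card_ge inf_le_left ?_
    obtain ⟨j, hj2, hjc⟩ : ∃ j ≤ 2, Nat.card ↥C = p ^ j := by
      refine (Nat.dvd_prime_pow (Fact.out : p.Prime)).1 ?_
      rw [← hs.card_bWE hE]
      exact card_dvd_of_le inf_le_left
    rw [hs.card_bWE hE, hjc]
    refine Nat.pow_le_pow_right (Fact.out : p.Prime).pos (le_of_not_gt fun hj => ?_)
    haveI : Fintype ↥C := Fintype.ofFinite _
    have hle : Nat.card ↥C ≤ p := hjc.trans_le ((Nat.pow_le_pow_right (Fact.out : p.Prime).pos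
      (by omega : j ≤ 1)).trans_eq (pow_one p))
    rw [Nat.card_eq_fintype_card] at hle
    rcases hs.type with ⟨hp, -⟩ | ⟨hp, -⟩
    · have h3 : ({1, ⟨w, hmem w hw hkw⟩, ⟨x, hmem x hx hkx⟩} : Finset ↥C).card = 3 := by
        rw [Finset.card_insert_of_notMem (by simp [Subtype.ext_iff, hw1.symm, hx1.symm]),
          Finset.card_insert_of_notMem (by simp [Subtype.ext_iff, hxw.symm]), Finset.card_singleton]
      have := h3.ge.trans (Finset.card_le_univ _)
      omega
    · have h6 : w ≠ w⁻¹ := fun h => by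
        have h7 := (CfsgLib.LocalEven.Oz.elemAb (p := p) (pCoreOf p E)).2 w (bWE_le E hw)
        have h8 : w * w = 1 := by nth_rewrite 1 [h]; exact inv_mul_cancel w
        rw [hp, pow_succ, pow_two, h8, one_mul] at h7
        exact hw1 h7
      have hxi : x ≠ w⁻¹ := by
        intro h5
        refine hfz ⟨hp, ?_⟩
        have h7 : (t * t)⁻¹ * f ∈ pCoreOf p F := by
          refine ht.mem_core_of_fixed hF (mul_mem (inv_mem ht.pow_data.1) hf) hwF hw1 ?_
          calc (t * t)⁻¹ * f * w = (t * t)⁻¹ * x * f := by rw [hxdef]; group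
            _ = (t * t)⁻¹ * ((t * t) * w * (t * t)⁻¹) * f := by rw [h5, ht.inverts hF hp hwF]
            _ = w * ((t * t)⁻¹ * f) := by group
        have h8 := Baumann.conj_mem_of_le_normalizer (CfsgLib.LocalEven.le_normalizer_pCoreOf p F)
          ht.pow_data.1 h7
        rwa [show t * t * ((t * t)⁻¹ * f) * (t * t)⁻¹ = f * (t * t)⁻¹ by group] at h8
      have h3 : ({1, ⟨w, hmem w hw hkw⟩, (⟨w, hmem w hw hkw⟩ : ↥C)⁻¹, ⟨x, hmem x hx hkx⟩} : Finset ↥C).card = 4 := by
        rw [Finset.card_insert_of_notMem (by simp [Subtype.ext_iff, hw1.symm, hx1.symm, eq_comm (a := (1 : G)), hw1]),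
          Finset.card_insert_of_notMem (by simp [Subtype.ext_iff, hxw.symm, h6]),
          Finset.card_insert_of_notMem (by simp [Subtype.ext_iff, hxi.symm]), Finset.card_singleton]
      have := h3.ge.trans (Finset.card_le_univ _)
      omega
  exact mem_centralizer_iff.2 fun y hy => (mem_centralizer_iff.1 (hCW.ge hy).2 k rfl).symm

end CfsgLib.LocalEven.SubBlock
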