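import Mathlib
import Cfsg.Agent.Lib.LocalEven.SubBlock.Module
import Cfsg.Agent.Lib.Local.AB

/-!
Stabilisers of sections, the solvable radical above `O_p(G)`, and small sections.
-/

set_option autoImplicit false

namespace CfsgLib.LocalEven.SubBlock

open Subgroup Cfsg
open scoped Pointwise commutatorElement

variable {G : Type*} [Group G] {p : ℕ}

/-- The elements of `U` normalising `K` whose commutators with `X` lie in `K`. -/
def relCent (U : Subgroup G) (X : Set G) (K : Subgroup G) : Subgroup G where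
  carrier := {u | u ∈ U ∧ u ∈ normalizer (K : Set G) ∧ ∀ x ∈ X, ⁅x, u⁆ ∈ K}
  one_mem' := ⟨one_mem U, one_mem _, fun x _ => by simp⟩
  mul_mem' := fun {a b} ha hb => ⟨mul_mem ha.1 hb.1, mul_mem ha.2.1 hb.2.1, fun x hx => by
    rw [show ⁅x, a * b⁆ = ⁅x, a⁆ * (a * ⁅x, b⁆ * a⁻¹) by simp only [commutatorElement_def]; group]
    exact mul_mem (ha.2.2 x hx) ((mem_normalizer_iff.1 ha.2.1 _).1 (hb.2.2 x hx))⟩
  inv_mem' := fun {a} ha => ⟨inv_mem ha.1, inv_mem ha.2.1, fun x hx => by
    rw [show ⁅x, a⁻¹⁆ = a⁻¹ * ⁅x, a⁆⁻¹ * a by simp only [commutatorElement_def]; group]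
    exact (mem_normalizer_iff''.1 ha.2.1 _).1 (inv_mem (ha.2.2 x hx))⟩

theorem relCent_le {U K : Subgroup G} {X : Set G} : relCent U X K ≤ U := fun _ h => h.1

theorem relCent_normalized {U K X : Subgroup G} {g : G} (hU : g ∈ normalizer (U : Set G))
    (hX : g ∈ normalizer (X : Set G)) (hK : g ∈ normalizer (K : Set G)) :
    g ∈ normalizer (relCent U (X : Set G) K : Set G) := by
  have key : ∀ g : G, g ∈ normalizer (U : Set G) → g ∈ normalizer (X : Set G) →
      g ∈ normalizer (K : Set G) → ∀ u ∈ relCent U (X : Set G) K, g * u * g⁻¹ ∈ relCent U (X : Set G) K := by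
    intro g hU hX hK u hu
    refine ⟨(mem_normalizer_iff.1 hU u).1 hu.1, mul_mem (mul_mem hK hu.2.1) (inv_mem hK), fun x hx => ?_⟩
    have h1 := (mem_normalizer_iff.1 hK _).1 (hu.2.2 _ ((mem_normalizer_iff''.1 hX x).1 hx))
    rwa [show g * ⁅g⁻¹ * x * g, u⁆ * g⁻¹ = ⁅x, g * u * g⁻¹⁆ by simp only [commutatorElement_def]; group] at h1
  refine mem_normalizer_iff.2 fun u => ⟨key g hU hX hK u, fun h => ?_⟩
  have h1 := key g⁻¹ (inv_mem hU) (inv_mem hX) (inv_mem hK) _ h
  rwa [show g⁻¹ * (g * u * g⁻¹) * g⁻¹⁻¹ = u by group] at h1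

/-- The elements centralising `A` modulo `B`. -/
def stab (A B : Subgroup G) : Subgroup G := relCent (normalizer (A : Set G)) (A : Set G) B

theorem mem_stab {A B : Subgroup G} {x : G} : x ∈ stab A B ↔
    x ∈ normalizer (A : Set G) ∧ x ∈ normalizer (B : Set G) ∧ ∀ a ∈ A, ⁅a, x⁆ ∈ B := Iff.rfl

theorem mem_stab_of_le [Finite G] {A B : Subgroup G} (hBA : B ≤ A) {x : G} (hA : x ∈ normalizer (A : Set G))
    (h : ∀ a ∈ A, ⁅a, x⁆ ∈ B) : x ∈ stab A B := by
  refine ⟨hA, CfsgLib.LocalEven.mem_normalizer_of_conj_le ?_, h⟩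
  rintro _ ⟨b, hb, rfl⟩
  show x * b * x⁻¹ ∈ B
  rw [conj_eq_comm_mul, ← commutatorElement_inv]
  exact mul_mem (inv_mem (h b (hBA hb))) hb

theorem commutator_mem_stab {A B : Subgroup G} {x g : G} (hx : x ∈ stab A B)
    (hA : g ∈ normalizer (A : Set G)) (hB : g ∈ normalizer (B : Set G)) :
    ⁅x, g⁆ ∈ stab A B ∧ ⁅g, x⁆ ∈ stab A B := by
  have hn : g ∈ normalizer (stab A B : Set G) := relCent_normalized
    ((le_normalizer : normalizer (A : Set G) ≤ _) hA) hA hB
  have h1 : ⁅g, x⁆ ∈ stab A B := by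
    rw [commutatorElement_def]
    exact mul_mem ((mem_normalizer_iff.1 hn x).1 hx) (inv_mem hx)
  exact ⟨commutatorElement_inv g x ▸ inv_mem h1, h1⟩

theorem mem_of_coprime_pows {H : Subgroup G} {x : G} {i j : ℕ} (hij : i.Coprime j) (hi : x ^ i ∈ H)
    (hj : x ^ j ∈ H) : x ∈ H := by
  have h := Nat.gcd_eq_gcd_ab i j
  rw [hij.gcd_eq_one, Nat.cast_one] at h
  rw [← zpow_one x, h, zpow_add, zpow_mul, zpow_mul, zpow_natCast, zpow_natCast]
  exact mul_mem (zpow_mem hi _) (zpow_mem hj _)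

/-- The preimage of `O_r(G/O_p(G))`. -/
def bR (p : ℕ) (G : Type*) [Group G] [(pCore p G).Normal] : Subgroup G :=
  (pCore (topPrime p) (G ⧸ pCore p G)).comap (QuotientGroup.mk' (pCore p G))

variable [Finite G] [Fact p.Prime]

omit [Fact p.Prime] in
instance bR_normal [(pCore p G).Normal] : (bR p G).Normal := by
  haveI := CfsgLib.Cores.pCore_characteristic (G := G ⧸ pCore p G) (topPrime p)
  exact Normal.comap inferInstance _

theorem topPrime_coprime (p : ℕ) [hp : Fact p.Prime] : (topPrime p).Coprime p := by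
  unfold topPrime
  split_ifs with h
  · subst h; norm_num
  · exact (Nat.coprime_primes Nat.prime_two hp.out).2 (Ne.symm h)

theorem le_bR [(pCore p G).Normal] {E : Subgroup G} {s : G} (hs : Solv p E s) (hEs : E.IsSubnormal) :
    E ≤ bR p G := by
  refine map_le_iff_le_comap.1
    (CfsgLib.Cores.le_pCore_of_isSubnormal (hEs.map (QuotientGroup.mk'_surjective _)) ?_)
  have hc := (Nat.card_congr (image_equiv (p := p) hEs).some.toEquiv).symm
  rcases hs.type with ⟨hp, h⟩ | ⟨hp, h⟩ <;> rw [h] at hc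
  · exact IsPGroup.of_card (n := 1) (by rw [hc, topPrime, if_pos hp, pow_one])
  · exact IsPGroup.of_card (n := 3) (by rw [hc, topPrime, if_neg (by omega)]; norm_num)

theorem pCore_le_bR [(pCore p G).Normal] : pCore p G ≤ bR p G := by
  intro v hv
  show QuotientGroup.mk' (pCore p G) v ∈ pCore (topPrime p) (G ⧸ pCore p G)
  rw [QuotientGroup.mk'_apply, (QuotientGroup.eq_one_iff v).2 hv]
  exact one_mem _

omit [Fact p.Prime] in
theorem exists_pow_mem_of_bR [(pCore p G).Normal] {x : G} (hx : x ∈ bR p G) :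
    ∃ k : ℕ, x ^ topPrime p ^ k ∈ pCore p G := by
  obtain ⟨k, hk⟩ := CfsgLib.Cores.isPGroup_pCore (G := G ⧸ pCore p G) (topPrime p) ⟨_, hx⟩
  refine ⟨k, (QuotientGroup.eq_one_iff _).1 ?_⟩
  have h1 := congrArg Subtype.val hk
  simpa using h1

/-- An element of `bR` whose coprime powers centralise `A` centralises `A` when `O_p(G)` does. -/
theorem centralizes_of_coprime_part [(pCore p G).Normal] {A : Subgroup G}
    (hA : pCore p G ≤ centralizer (A : Set G)) {x : G} (hx : x ∈ bR p G)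
    (h : ∀ y ∈ zpowers x, (orderOf y).Coprime p → y ∈ centralizer (A : Set G)) :
    x ∈ centralizer (A : Set G) := by
  obtain ⟨b, hb⟩ := exists_pow_mem_of_bR hx
  obtain ⟨a, m, hm, hkm⟩ :=
    Nat.exists_eq_pow_mul_and_not_dvd (orderOf_pos x).ne' p (Fact.out : p.Prime).ne_one
  have ho : orderOf (x ^ p ^ a) = m := by
    rw [orderOf_pow' _ (pow_ne_zero a (Fact.out : p.Prime).ne_zero), hkm, Nat.gcd_mul_right_left,
      Nat.mul_div_cancel_left _ (pow_pos (Fact.out : p.Prime).pos a)]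
  exact mem_of_coprime_pows (((topPrime_coprime p).symm.pow_left a).pow_right b)
    (h _ (pow_mem (mem_zpowers x) _) (by rw [ho]; exact (((Fact.out : p.Prime).coprime_iff_not_dvd).2 hm).symm))
    (hA hb)

/-- An element of `bR` whose coprime powers centralise `O_p(G)` lies in `O_p(G)`. -/
theorem mem_pCore_of_coprime_part [(pCore p G).Normal]
    (hG : centralizer (pCore p G : Set G) ≤ pCore p G) {x : G} (hx : x ∈ bR p G)
    (h : ∀ y ∈ zpowers x, (orderOf y).Coprime p → ∀ v ∈ pCore p G, ⁅v, y⁆ = 1) : x ∈ pCore p G := by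
  obtain ⟨b, hb⟩ := exists_pow_mem_of_bR hx
  obtain ⟨a, m, hm, hkm⟩ :=
    Nat.exists_eq_pow_mul_and_not_dvd (orderOf_pos x).ne' p (Fact.out : p.Prime).ne_one
  have ho : orderOf (x ^ p ^ a) = m := by
    rw [orderOf_pow' _ (pow_ne_zero a (Fact.out : p.Prime).ne_zero), hkm, Nat.gcd_mul_right_left,
      Nat.mul_div_cancel_left _ (pow_pos (Fact.out : p.Prime).pos a)]
  have hc : (orderOf (x ^ p ^ a)).Coprime p := by
    rw [ho]; exact (((Fact.out : p.Prime).coprime_iff_not_dvd).2 hm).symm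
  have hV : x ^ p ^ a ∈ pCore p G := hG (mem_centralizer_iff.2 fun v hv =>
    commutatorElement_eq_one_iff_mul_comm.1 (h _ (pow_mem (mem_zpowers x) _) hc v hv))
  exact mem_of_coprime_pows (((topPrime_coprime p).symm.pow_left a).pow_right b) hV hb

theorem le_of_le_commutator_sup {M N X : Subgroup G} (hM : IsPGroup p ↥M) (hX : IsPGroup p ↥X)
    (hXM : X ≤ normalizer (M : Set G)) (hMN : M ≤ normalizer (N : Set G))
    (hXN : X ≤ normalizer (N : Set G)) (h : M ≤ ⁅M, X⁆ ⊔ N) : M ≤ N := by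
  set H := normalizer (N : Set G) with hH
  haveI : (N.subgroupOf H).Normal := normal_subgroupOf_of_le_normalizer le_rfl
  set π := QuotientGroup.mk' (N.subgroupOf H) with hπ
  have hNH : N ≤ H := le_normalizer
  have hcH : ⁅M, X⁆ ≤ H := (commutator_mono hMN hXN).trans
    (CfsgLib.Solvable.commutator_le_of_le_normalizer le_normalizer)
  by_contra hne
  have h1 : (M.subgroupOf H).map π ≠ ⊥ := by
    intro hb
    rw [Subgroup.map_eq_bot_iff, QuotientGroup.ker_mk'] at hb
    refine hne fun m hm => ?_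
    exact mem_subgroupOf.1 (hb (show (⟨m, hMN hm⟩ : ↥H) ∈ M.subgroupOf H from hm))
  have h2 := CfsgLib.Local.commutator_lt_of_isPGroup (p := p)
    (Q := (M.subgroupOf H).map π) (U := (X.subgroupOf H).map π)
    (hM.comap_subtype.map π) (hX.comap_subtype.map π) ?_ h1
  · refine h2.not_ge ?_
    rw [← map_commutator]
    refine (map_mono ?_).trans ((Subgroup.map_sup _ _ π).trans_le (sup_le le_rfl
      (((Subgroup.map_eq_bot_iff _).2 (QuotientGroup.ker_mk' (N.subgroupOf H)).ge).le.trans bot_le)))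
    rw [← map_subtype_le_map_subtype, Subgroup.map_sup, map_commutator, map_subgroupOf_eq_of_le hMN,
      map_subgroupOf_eq_of_le hXN, map_subgroupOf_eq_of_le hNH]
    exact h
  · refine (map_mono fun x hx => ?_).trans (le_normalizer_map π)
    rw [mem_normalizer_iff]
    intro y
    simp only [mem_subgroupOf, Subgroup.coe_mul, InvMemClass.coe_inv]
    exact mem_normalizer_iff.1 (hXM (mem_subgroupOf.1 hx)) _

/-- A `p`-group acts quadratically on a section of order `p ^ 2`. -/
theorem quad_section {M N X : Subgroup G} (hM : IsPGroup p ↥M) (hX : IsPGroup p ↥X) (hNM : N ≤ M)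
    (hc : Nat.card ↥M = p ^ 2 * Nat.card ↥N)
    (hXM : X ≤ normalizer (M : Set G)) (hMN : M ≤ normalizer (N : Set G))
    (hXN : X ≤ normalizer (N : Set G)) : ⁅⁅M, X⁆, X⁆ ≤ N := by
  have hp := (Fact.out : p.Prime)
  set Y := ⁅M, X⁆ ⊔ N with hY
  have hYM : Y ≤ M := sup_le (CfsgLib.Solvable.commutator_le_of_le_normalizer hXM) hNM
  have hYX : X ≤ normalizer (Y : Set G) := fun x hx =>
    CfsgLib.LocalEven.mem_normalizer_of_conj_le (le_of_eq_of_le (Subgroup.map_sup _ _ _) (sup_le_sup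
      (mem_normalizer_iff_map_conj_eq.1 (CfsgLib.Solvable.le_normalizer_commutator_right hXM hx)).le
      (mem_normalizer_iff_map_conj_eq.1 (hXN hx)).le))
  obtain ⟨a, ha⟩ := IsPGroup.iff_card.1 (hM.to_le hNM)
  obtain ⟨b, hb⟩ := IsPGroup.iff_card.1 (hM.to_le hYM)
  have hbM : b < a + 2 := by
    refine lt_of_not_ge fun hge => ?_
    have h1 : M ≤ N := le_of_le_commutator_sup hM hX hXM hMN hXN (eq_of_le_of_card_ge hYM (by
      rw [hc, ha, hb, ← pow_add]
      exact Nat.pow_le_pow_right hp.pos (by omega))).ge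
    have h2 := card_le_of_le h1
    rw [hc, ha, ← pow_add] at h2
    have := (Nat.pow_le_pow_iff_right hp.one_lt).1 h2
    omega
  set Y' := ⁅Y, X⁆ ⊔ N with hY'
  have hY'Y : Y' ≤ Y := sup_le (CfsgLib.Solvable.commutator_le_of_le_normalizer hYX) le_sup_right
  obtain ⟨c, hc'⟩ := IsPGroup.iff_card.1 (hM.to_le (hY'Y.trans hYM))
  suffices hN : Y' ≤ N from (commutator_mono le_sup_left le_rfl).trans (le_sup_left.trans hN)
  by_contra hne
  have h1 : a < c := by
    refine lt_of_not_ge fun hge => hne (eq_of_le_of_card_ge (le_sup_right : N ≤ Y') ?_).ge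
    rw [ha, hc']; exact Nat.pow_le_pow_right hp.pos hge
  have h2 : c < b := by
    refine lt_of_not_ge fun hge => ?_
    have h3 : Y ≤ N := le_of_le_commutator_sup (hM.to_le hYM) hX hYX (hYM.trans hMN) hXN
      (eq_of_le_of_card_ge hY'Y (by rw [hb, hc']; exact Nat.pow_le_pow_right hp.pos hge)).ge
    exact hne (hY'Y.trans h3)
  omega

end CfsgLib.LocalEven.SubBlock
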