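import Mathlib
import Cfsg.Agent.Lib.LocalEven.SubBlock.Section

/-!
The commutator map `O_p(E) × O_p(G) → [W, E]`.
-/

set_option autoImplicit false

namespace CfsgLib.LocalEven.SubBlock

open Subgroup Cfsg
open scoped Pointwise commutatorElement

variable {G : Type*} [Group G] [Finite G] {p : ℕ} [Fact p.Prime] {T T' : Sylow p G} {E F : Subgroup G}

/-- The elements of `O_p(G)` centralising `O_p(E)` modulo `Z`. -/
abbrev v1 (p : ℕ) (E : Subgroup G) : Subgroup G :=
  relCent (pCore p G) (pCoreOf p E : Set G) (bZ p E)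

theorem mem_v1 (hE : IsBaumannBlock p (T : Subgroup G) E) {u : G} (hu : u ∈ pCore p G)
    (h : ∀ q ∈ pCoreOf p E, ⁅q, u⁆ ∈ bZ p E) : u ∈ v1 p E :=
  ⟨hu, normalizer_le_bZ E (Block.pCore_le_normalizer hE hu), h⟩

omit [Fact p.Prime] in
theorem normal_pCore' : (pCore p G).Normal := by
  haveI := CfsgLib.Cores.pCore_characteristic (G := G) p
  infer_instance

omit [Fact p.Prime] in
theorem mem_normalizer_normal {N : Subgroup G} [N.Normal] (g : G) : g ∈ normalizer (N : Set G) := by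
  rw [normalizer_eq_top]; exact mem_top g

theorem normalizer_le_v1 {g : G} (hg : g ∈ normalizer (E : Set G)) :
    g ∈ normalizer (v1 p E : Set G) := by
  haveI := normal_pCore' (p := p) (G := G)
  exact relCent_normalized (mem_normalizer_normal g) (Block.normalizer_le_pCoreOf E hg)
    (normalizer_le_bZ E hg)

omit [Fact p.Prime] in
theorem core_le_pCore (hEs : E.IsSubnormal) : pCoreOf p E ≤ pCore p G :=
  CfsgLib.LocalEven.Subn.pCoreOf_le_pCore hEs

theorem commutator_V_le_core (hE : IsBaumannBlock p (T : Subgroup G) E) :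
    ⁅pCore p G, E⁆ ≤ pCoreOf p E := by
  haveI := normal_pCore' (p := p) (G := G)
  rw [commutator_comm]
  exact commutator_le_core hE (commutator_le_right E (pCore p G))

theorem conj_mul_V (hE : IsBaumannBlock p (T : Subgroup G) E) {e v : G} (he : e ∈ E)
    (hv : v ∈ pCore p G) : ∃ q ∈ pCoreOf p E, e * v * e⁻¹ = v * q := by
  refine ⟨⁅v⁻¹, e⁆, commutator_V_le_core hE (commutator_mem_commutator (inv_mem hv) he), ?_⟩
  simp only [commutatorElement_def]; group

theorem commutator_V_le_bWE (hE : IsBaumannBlock p (T : Subgroup G) E) (h : pCoreOf p E = bW p E) :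
    ⁅pCore p G, E⁆ ≤ bWE p E :=
  commutator_le_of_coprime (isPGroup_bW E) hE.1 (h ▸ commutator_V_le_core hE) le_rfl (le_normalizer_bWE E)
    ((bW_le E).trans (le_normalizer_bWE E))

theorem Solv.mem_bZ_of_fixed (hE : IsBaumannBlock p (T : Subgroup G) E) {s : G} (hs : Solv p E s) {x : G}
    (hx : x ∈ bW p E) (h : ⁅s * s, x⁆ = 1) : x ∈ bZ p E := by
  obtain ⟨y, hy, z, hz, rfl⟩ := exists_mul_of_sup (bWE_le E) ((bWE_sup hE).ge hx)
  have hy1 : y = 1 := by
    refine hs.fixed_eq_one hE hy ?_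
    have h1 : ⁅y * z, s * s⁆ = 1 := by rw [← commutatorElement_inv, h, inv_one]
    rw [commutator_mul_bZ hz hs.pow_data.1] at h1
    exact (commutatorElement_eq_one_iff_mul_comm.1 h1).symm
  rw [hy1, one_mul]; exact hz

theorem od_mem (hG : centralizer (pCore p G : Set G) ≤ pCore p G)
    (hE : IsBaumannBlock p (T : Subgroup G) E) (hEs : E.IsSubnormal) {g a : G} (hg : g ∈ E)
    (ha : a ∈ bA p G) : ⁅g, a⁆ ∈ bWE p E := by
  rw [← commutatorElement_inv]
  exact inv_mem (commutator_bA hG hE hEs ▸ commutator_mem_commutator ha hg)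

theorem od_mul {g a b : G} (ha : a ∈ bA p G) (hb : b ∈ bA p G) : ⁅g, a * b⁆ = ⁅g, a⁆ * ⁅g, b⁆ := by
  haveI := bA_normal (p := p) (G := G)
  have h1 : ⁅g, b⁆ ∈ bA p G := by
    rw [commutatorElement_def]
    exact mul_mem ((inferInstance : (bA p G).Normal).conj_mem b hb g) (inv_mem hb)
  rw [show ⁅g, a * b⁆ = ⁅g, a⁆ * (a * ⁅g, b⁆ * a⁻¹) by simp only [commutatorElement_def]; group,
    bA_comm a ha _ h1, mul_inv_cancel_right]

theorem od_inv {g a : G} (ha : a ∈ bA p G) : ⁅g, a⁻¹⁆ = ⁅g, a⁆⁻¹ := by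
  rw [eq_inv_iff_mul_eq_one, ← od_mul (inv_mem ha) ha, inv_mul_cancel, commutatorElement_one_right]

/-- The commutation with `s²` commutes with the block. -/
theorem Solv.od_conj (hEs : E.IsSubnormal) {s : G} (hs : Solv p E s) {e a : G} (he : e ∈ E)
    (ha : a ∈ bA p G) : e * ⁅s * s, a⁆ * e⁻¹ = ⁅s * s, e * a * e⁻¹⁆ := by
  haveI := bA_normal (p := p) (G := G)
  have hb : e * a * e⁻¹ ∈ bA p G := (inferInstance : (bA p G).Normal).conj_mem a ha e
  have hc : ⁅e, s * s⁆ ∈ pCore p G := core_le_pCore hEs (hs.central e he)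
  have hgb : (s * s) * (e * a * e⁻¹) * (s * s)⁻¹ ∈ bA p G :=
    (inferInstance : (bA p G).Normal).conj_mem _ hb _
  have h1 := bA_central hgb hc
  calc e * ⁅s * s, a⁆ * e⁻¹
      = (⁅e, s * s⁆ * ((s * s) * (e * a * e⁻¹) * (s * s)⁻¹)) * ⁅e, s * s⁆⁻¹ * (e * a * e⁻¹)⁻¹ := by
        generalize s * s = g
        simp only [commutatorElement_def]; group
    _ = ((s * s) * (e * a * e⁻¹) * (s * s)⁻¹) * (e * a * e⁻¹)⁻¹ := by rw [h1, mul_inv_cancel_right]
    _ = ⁅s * s, e * a * e⁻¹⁆ := by rw [commutatorElement_def ]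

section Exc

theorem Exc.card_bZ (hx : Exc p (T : Subgroup G) E) {s : G} (hs : Solv p E s) : Nat.card ↥(bZ p E) = p := by
  have h := hx.cardZ.trans hs.cardW
  exact Nat.pow_left_injective two_ne_zero h

theorem Exc.bZ_le_bA (hE : IsBaumannBlock p (T : Subgroup G) E) (hEs : E.IsSubnormal)
    (hx : Exc p (T : Subgroup G) E) {s : G} (hs : Solv p E s) : bZ p E ≤ bA p G := by
  intro z hz
  have hzV : z ∈ pCore p G := core_le_pCore hEs (bW_le_core E hz.1)
  have hz3 : z ^ p = 1 := (CfsgLib.LocalEven.Oz.elemAb (p := p) (pCoreOf p E)).2 z hz.1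
  refine CfsgLib.LocalEven.Oz.mem_iff.2 ⟨hzV, fun v hv => ?_, hz3⟩
  by_cases hz1 : z = 1
  · simp [hz1]
  have hn : v ∈ normalizer (bZ p E : Set G) := normalizer_le_bZ E (Block.pCore_le_normalizer hE hv)
  have hcz := hx.card_bZ hs
  obtain ⟨i, hi⟩ := mem_powers_of_prime_card hcz (g := (⟨z, hz⟩ : ↥(bZ p E)))
    (g' := ⟨v * z * v⁻¹, (mem_normalizer_iff.1 hn z).1 hz⟩) (fun h => hz1 (congrArg Subtype.val h))
  have hi' : z ^ i = v * z * v⁻¹ := congrArg Subtype.val hi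
  have hcases : v * z * v⁻¹ = z ∨ v * z * v⁻¹ = z⁻¹ := by
    rw [← hi', ← pow_mod_orderOf, orderOf_eq_prime hz3 hz1, hx.three]
    have : i % 3 = 0 ∨ i % 3 = 1 ∨ i % 3 = 2 := by omega
    rcases this with h | h | h <;> rw [h]
    · exfalso
      apply hz1
      have : z ^ i = 1 := by rw [← pow_mod_orderOf, orderOf_eq_prime hz3 hz1, hx.three, h, pow_zero]
      rw [hi'] at this
      exact conj_eq_one_iff.1 this
    · exact Or.inl (pow_one z)
    · refine Or.inr ((eq_inv_iff_mul_eq_one).2 ?_)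
      rw [← pow_succ]
      rwa [hx.three] at hz3
  rcases hcases with h | h
  · exact mul_inv_eq_iff_eq_mul.1 h
  · have h2 : Commute (v ^ 2) z := by
      refine mul_inv_eq_iff_eq_mul.1 ?_
      calc v ^ 2 * z * (v ^ 2)⁻¹ = v * (v * z * v⁻¹) * v⁻¹ := by rw [pow_two]; group
        _ = v * z⁻¹ * v⁻¹ := by rw [h]
        _ = (v * z * v⁻¹)⁻¹ := by group
        _ = z := by rw [h, inv_inv]
    obtain ⟨k, hk⟩ := CfsgLib.Cores.isPGroup_pCore p ⟨v, hv⟩
    have hv3 : (2 : ℕ).Coprime (orderOf v) := by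
      refine Nat.Coprime.coprime_dvd_right (orderOf_dvd_of_pow_eq_one (congrArg Subtype.val hk)) ?_
      rw [hx.three]; exact Nat.Coprime.pow_right k (by norm_num)
    obtain ⟨m, hm⟩ := exists_pow_eq_self_of_coprime hv3
    rw [← hm]
    exact (h2.pow_left m).eq

theorem Exc.bW_le_bA' (hG : centralizer (pCore p G : Set G) ≤ pCore p G)
    (hE : IsBaumannBlock p (T : Subgroup G) E) (hEs : E.IsSubnormal)
    (hx : Exc p (T : Subgroup G) E) {s : G} (hs : Solv p E s) : bW p E ≤ bA p G :=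
  bW_le_bA hG hE (hx.bZ_le_bA hE hEs hs)

theorem Exc.commutator_core_V (hE : IsBaumannBlock p (T : Subgroup G) E)
    (hx : Exc p (T : Subgroup G) E) : ⁅pCoreOf p E, pCore p G⁆ ≤ bW p E := by
  have hV := Block.pCore_le_normalizer hE
  have hQ' : ∀ a ∈ pCoreOf p E, ∀ b ∈ pCoreOf p E, ⁅a, b⁆ ∈ bW p E := fun a ha b hb =>
    (inf_le_left : bZ p E ≤ bW p E) (hx.derived.le (commutator_mem_commutator ha hb))
  refine commutator_le_of_irreducible hQ' (bW_le_core E) (CfsgLib.LocalEven.isPGroup_pCoreOf p E) hx.irr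
    (CfsgLib.Cores.isPGroup_pCore p) (hV.trans (Block.normalizer_le_pCoreOf E))
    (hV.trans (normalizer_le_bW E)) (CfsgLib.LocalEven.le_normalizer_pCoreOf p E) (le_normalizer_bW E)
    fun e he v hv w hw => hQ' _ ?_ w hw
  rw [← commutatorElement_inv]
  exact inv_mem (commutator_V_le_core hE (commutator_mem_commutator hv he))

theorem Exc.bracket_mul_right (hG : centralizer (pCore p G : Set G) ≤ pCore p G)
    (hE : IsBaumannBlock p (T : Subgroup G) E) (hEs : E.IsSubnormal)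
    (hx : Exc p (T : Subgroup G) E) {s : G} (hs : Solv p E s) {q a b : G} (hq : q ∈ pCoreOf p E)
    (ha : a ∈ pCore p G) (hb : b ∈ pCore p G) : ⁅q, a * b⁆ = ⁅q, a⁆ * ⁅q, b⁆ := by
  have h1 := bA_central (hx.bW_le_bA' hG hE hEs hs (hx.commutator_core_V hE (commutator_mem_commutator hq hb))) ha
  rw [show ⁅q, a * b⁆ = ⁅q, a⁆ * (a * ⁅q, b⁆ * a⁻¹) by simp only [commutatorElement_def]; group, h1,
    mul_inv_cancel_right]

theorem Exc.bracket_mul_left (hE : IsBaumannBlock p (T : Subgroup G) E)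
    (hx : Exc p (T : Subgroup G) E) {q q' v : G} (hq : q ∈ pCoreOf p E)
    (hq' : q' ∈ pCoreOf p E) (hv : v ∈ pCore p G) : ⁅q * q', v⁆ = ⁅q', v⁆ * ⁅q, v⁆ := by
  have h1 := core_comm hq (hx.commutator_core_V hE (commutator_mem_commutator hq' hv))
  rw [show ⁅q * q', v⁆ = q * ⁅q', v⁆ * q⁻¹ * ⁅q, v⁆ by simp only [commutatorElement_def]; group, h1,
    mul_inv_cancel_right]

/-- For `v ∈ O_p(G)` the map `q ↦ [q, v] Z` is zero or injective on `Q/W`. -/
theorem Exc.bracket_dichotomy (hE : IsBaumannBlock p (T : Subgroup G) E)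
    (hx : Exc p (T : Subgroup G) E) {v : G} (hv : v ∈ pCore p G) :
    (∀ q ∈ pCoreOf p E, ⁅q, v⁆ ∈ bZ p E) ∨ ∀ q ∈ pCoreOf p E, ⁅q, v⁆ ∈ bZ p E → q ∈ bW p E := by
  have hVZ : ∀ g ∈ pCore p G, g ∈ normalizer (bZ p E : Set G) := fun g hg =>
    normalizer_le_bZ E (Block.pCore_le_normalizer hE hg)
  have hQZ : ∀ g ∈ pCoreOf p E, g ∈ normalizer (bZ p E : Set G) := fun g hg =>
    le_normalizer_bZ E (CfsgLib.LocalEven.pCoreOf_le p E hg)
  let K : Subgroup G :=
    { carrier := {q | q ∈ pCoreOf p E ∧ ⁅q, v⁆ ∈ bZ p E}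
      one_mem' := ⟨one_mem _, by simp⟩
      mul_mem' := fun {a b} ha hb => ⟨mul_mem ha.1 hb.1, by
        rw [show ⁅a * b, v⁆ = a * ⁅b, v⁆ * a⁻¹ * ⁅a, v⁆ by simp only [commutatorElement_def]; group]
        exact mul_mem ((mem_normalizer_iff.1 (hQZ a ha.1) _).1 hb.2) ha.2⟩
      inv_mem' := fun {a} ha => ⟨inv_mem ha.1, by
        rw [show ⁅a⁻¹, v⁆ = a⁻¹ * ⁅a, v⁆⁻¹ * a by simp only [commutatorElement_def]; group]
        exact (mem_normalizer_iff''.1 (hQZ a ha.1) _).1 (inv_mem ha.2)⟩ }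
  have hKQ : K ≤ pCoreOf p E := fun q hq => hq.1
  have hWK : bW p E ≤ K := fun w hw =>
    ⟨bW_le_core E hw, Block.commutator_pCore_le hE (commutator_mem_commutator hw hv)⟩
  have hKE : E ≤ normalizer (K : Set G) := by
    intro e he
    refine CfsgLib.LocalEven.mem_normalizer_of_conj_le ?_
    rintro _ ⟨q, hq, rfl⟩
    refine ⟨Baumann.conj_mem_of_le_normalizer (CfsgLib.LocalEven.le_normalizer_pCoreOf p E) he hq.1, ?_⟩
    show ⁅e * q * e⁻¹, v⁆ ∈ bZ p E
    obtain ⟨r, hr, hev⟩ := conj_mul_V hE (inv_mem he) hv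
    rw [inv_inv] at hev
    have h1 : ⁅q, v * r⁆ ∈ bZ p E := by
      rw [show ⁅q, v * r⁆ = ⁅q, v⁆ * (v * ⁅q, r⁆ * v⁻¹) by simp only [commutatorElement_def]; group]
      exact mul_mem hq.2 ((mem_normalizer_iff.1 (hVZ v hv) _).1
        (hx.derived.le (commutator_mem_commutator hq.1 hr)))
    rw [← hev] at h1
    have h2 := Baumann.conj_mem_of_le_normalizer (le_normalizer_bZ E) he h1
    rwa [show e * ⁅q, e⁻¹ * v * e⁆ * e⁻¹ = ⁅e * q * e⁻¹, v⁆ by simp only [commutatorElement_def]; group] at h2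
  rcases hx.irr K hWK hKQ hKE with h | h
  · exact Or.inr fun q hq hz => h.le ⟨hq, hz⟩
  · exact Or.inl fun q hq => (h.ge hq).2

/-- Equivariance of `(q, v) ↦ [s², [q, v]]`. -/
theorem Exc.beta_conj (hG : centralizer (pCore p G : Set G) ≤ pCore p G)
    (hE : IsBaumannBlock p (T : Subgroup G) E) (hEs : E.IsSubnormal)
    (hx : Exc p (T : Subgroup G) E) {s : G} (hs : Solv p E s) {e q v : G} (he : e ∈ E)
    (hq : q ∈ pCoreOf p E) (hv : v ∈ pCore p G) :
    e * ⁅s * s, ⁅q, v⁆⁆ * e⁻¹ = ⁅s * s, ⁅e * q * e⁻¹, v⁆⁆ := by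
  have hA : ∀ a ∈ pCoreOf p E, ∀ b ∈ pCore p G, ⁅a, b⁆ ∈ bA p G := fun a ha b hb =>
    hx.bW_le_bA' hG hE hEs hs (hx.commutator_core_V hE (commutator_mem_commutator ha hb))
  have hq1 : e * q * e⁻¹ ∈ pCoreOf p E :=
    Baumann.conj_mem_of_le_normalizer (CfsgLib.LocalEven.le_normalizer_pCoreOf p E) he hq
  obtain ⟨r, hr, hev⟩ := conj_mul_V hE he hv
  rw [hs.od_conj hEs he (hA q hq v hv),
    show e * ⁅q, v⁆ * e⁻¹ = ⁅e * q * e⁻¹, e * v * e⁻¹⁆ by simp only [commutatorElement_def]; group, hev,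
    hx.bracket_mul_right hG hE hEs hs hq1 hv (core_le_pCore hEs hr),
    od_mul (hA _ hq1 v hv) (hA _ hq1 r (core_le_pCore hEs hr))]
  have hz : ⁅e * q * e⁻¹, r⁆ ∈ bZ p E := hx.derived.le (commutator_mem_commutator hq1 hr)
  rw [commutatorElement_eq_one_iff_mul_comm.2 (mem_centralizer_iff.1 hz.2 _ hs.pow_data.1), mul_one]

end Exc

/-- Elements of `bR` centralising `W` and acting trivially modulo `W` centralise `A`. -/
theorem mem_centralizer_bA [(pCore p G).Normal] {W : Subgroup G} (hW : IsPGroup p ↥W) {x : G}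
    (hx : x ∈ bR p G) (hxW : x ∈ centralizer (W : Set G)) (h : ∀ a ∈ bA p G, ⁅a, x⁆ ∈ W) :
    x ∈ centralizer (bA p G : Set G) := by
  refine centralizes_of_coprime_part
    (fun v hv => mem_centralizer_iff.2 fun a ha => (bA_central ha hv).symm) hx fun y hy hc => ?_
  rw [mem_centralizer_iff]
  intro a ha
  rw [← commutatorElement_eq_one_iff_mul_comm]
  haveI := bA_normal (p := p) (G := G)
  have hxs : x ∈ stab (bA p G) W := ⟨mem_normalizer_normal x, centralizer_le_normalizer _ hxW, h⟩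
  refine mem_bot.1 (comm_mem_of_coprime (M := ⊥) hW hc ((zpowers_le.2 hxs hy).2.2 a ha)
    (by rw [normalizer_eq_top]; exact mem_top y) (by rw [normalizer_eq_top]; exact le_top) fun k hk => ?_)
  rw [mem_bot, commutatorElement_eq_one_iff_mul_comm]
  exact mem_centralizer_iff.1 (zpowers_le.2 hxW hy) k hk

/-- The two inverting elements of blocks with the same module agree on `A`. -/
theorem od_eq (hG : centralizer (pCore p G : Set G) ≤ pCore p G)
    (hE : IsBaumannBlock p (T : Subgroup G) E) (hEs : E.IsSubnormal) {s : G} (hs : Solv p E s)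
    (hF : IsBaumannBlock p (T' : Subgroup G) F) (hFs : F.IsSubnormal) {t : G} (ht : Solv p F t)
    (hp : p = 3) (hW : bWE p E = bWE p F) {a : G} (ha : a ∈ bA p G) : ⁅t * t, a⁆ = ⁅s * s, a⁆ := by
  haveI := normal_pCore' (p := p) (G := G)
  haveI := bA_normal (p := p) (G := G)
  set k := (s * s)⁻¹ * (t * t) with hk
  have hkW : k ∈ centralizer (bWE p E : Set G) := mem_centralizer_iff.2 fun x hx => by
    have h1 := hs.inverts hE hp hx
    have h2 := ht.inverts hF hp (hW ▸ hx : x ∈ bWE p F)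
    rw [hk]
    generalize s * s = g at h1 ⊢
    generalize t * t = g' at h2 ⊢
    calc x * (g⁻¹ * g') = g⁻¹ * (g * x * g⁻¹) * g' := by group
      _ = g⁻¹ * (g' * x * g'⁻¹) * g' := by rw [h1, h2]
      _ = g⁻¹ * g' * x := by group
  have hsA : ∀ {X : Subgroup G}, ⁅bA p G, X⁆ ≤ bWE p E → X ≤ normalizer (bWE p E : Set G) →
      X ≤ stab (bA p G) (bWE p E) :=
    fun h hn x hx => ⟨mem_normalizer_normal x, hn hx, fun a ha => h (commutator_mem_commutator ha hx)⟩
  have hkS : k ∈ stab (bA p G) (bWE p E) :=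
    mul_mem (inv_mem (hsA (commutator_bA hG hE hEs).le (le_normalizer_bWE E) hs.pow_data.1))
      (hsA (hW ▸ (commutator_bA hG hF hFs).le) (hW ▸ le_normalizer_bWE F) ht.pow_data.1)
  have hkc := mem_centralizer_bA ((isPGroup_bW E).to_le (bWE_le E))
    (mul_mem (inv_mem (le_bR hs hEs hs.pow_data.1)) (le_bR ht hFs ht.pow_data.1)) hkW hkS.2.2
  have h1 : k * a = a * k := (mem_centralizer_iff.1 hkc a ha).symm
  have h2 : t * t = (s * s) * k := by rw [hk, mul_inv_cancel_left]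
  rw [h2]
  generalize s * s = g
  calc ⁅g * k, a⁆ = g * (k * a) * k⁻¹ * g⁻¹ * a⁻¹ := by simp only [commutatorElement_def]; group
    _ = ⁅g, a⁆ := by rw [h1]; simp only [commutatorElement_def]; group

/-- `O_p(E)` centralises `O_p(F)` modulo `Z`. -/
theorem core_le_v1 (hG : centralizer (pCore p G : Set G) ≤ pCore p G)
    (hE : IsBaumannBlock p (T : Subgroup G) E) (hEs : E.IsSubnormal) {s : G} (hs : Solv p E s)
    (hxE : Exc p (T : Subgroup G) E)
    (hF : IsBaumannBlock p (T' : Subgroup G) F) (hFs : F.IsSubnormal) {t : G} (ht : Solv p F t)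
    (hxF : Exc p (T' : Subgroup G) F)
    (hrel : bWE p E = bWE p F ∨ (⁅bWE p E, F⁆ = ⊥ ∧ ⁅bWE p F, E⁆ = ⊥)) :
    pCoreOf p F ≤ v1 p E := by
  classical
  intro u hu
  have huV := core_le_pCore hFs hu
  refine mem_v1 hE huV ?_
  rcases hxE.bracket_dichotomy hE huV with h | hinj
  · exact h
  exfalso
  have hQE := core_le_pCore (p := p) hEs
  have hA : ∀ q ∈ pCoreOf p E, ⁅q, u⁆ ∈ bA p G := fun q hq =>
    hxE.bW_le_bA' hG hE hEs hs (hxE.commutator_core_V hE (commutator_mem_commutator hq huV))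
  have hA' : ∀ q ∈ pCore p G, ⁅u, q⁆ ∈ bW p F := fun q hq =>
    hxF.commutator_core_V hF (commutator_mem_commutator hu hq)
  rcases hrel with hW | ⟨-, hd⟩
  · -- the same module
    obtain ⟨q, hq, hqW⟩ : ∃ q ∈ pCoreOf p E, q ∉ bW p E := by
      by_contra hc
      push Not at hc
      have h1 := hxE.index_eq.trans hs.cardW
      rw [index_eq_one.2 (subgroupOf_eq_top.2 hc)] at h1
      exact (Nat.one_lt_pow two_ne_zero (Fact.out : p.Prime).one_lt).ne h1
    have hnc : ∀ e ∈ E, ∀ f ∈ F, e * (f * ⁅s * s, ⁅q, u⁆⁆ * f⁻¹) * e⁻¹ =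
        f * (e * ⁅s * s, ⁅q, u⁆⁆ * e⁻¹) * f⁻¹ := by
      have hf' : ∀ f ∈ F, ∀ q ∈ pCoreOf p E,
          f * ⁅s * s, ⁅q, u⁆⁆ * f⁻¹ = ⁅s * s, ⁅q, f * u * f⁻¹⁆⁆ := by
        intro f hf q hq
        have hu1 : f * u * f⁻¹ ∈ pCoreOf p F :=
          Baumann.conj_mem_of_le_normalizer (CfsgLib.LocalEven.le_normalizer_pCoreOf p F) hf hu
        have hq1 : ⁅u, q⁆ ∈ bA p G := commutatorElement_inv q u ▸ inv_mem (hA q hq)
        have hq2 : ⁅f * u * f⁻¹, q⁆ ∈ bA p G := hxF.bW_le_bA' hG hF hFs ht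
          (hxF.commutator_core_V hF (commutator_mem_commutator hu1 (hQE hq)))
        rw [← commutatorElement_inv u q, ← commutatorElement_inv (f * u * f⁻¹) q, od_inv hq1, od_inv hq2,
          ← od_eq hG hE hEs hs hF hFs ht hxE.three hW hq1, ← od_eq hG hE hEs hs hF hFs ht hxE.three hW hq2,
          ← hxF.beta_conj hG hF hFs ht hf hu (hQE hq)]
        group
      intro e he f hf
      have hq1 : e * q * e⁻¹ ∈ pCoreOf p E :=
        Baumann.conj_mem_of_le_normalizer (CfsgLib.LocalEven.le_normalizer_pCoreOf p E) he hq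
      have hfu : f * u * f⁻¹ ∈ pCore p G := core_le_pCore hFs
        (Baumann.conj_mem_of_le_normalizer (CfsgLib.LocalEven.le_normalizer_pCoreOf p F) hf hu)
      rw [hf' f hf q hq, hxE.beta_conj hG hE hEs hs he hq hfu, hxE.beta_conj hG hE hEs hs he hq huV,
        hf' f hf _ hq1]
    set x := ⁅s * s, ⁅q, u⁆⁆ with hxdef
    have hxW : x ∈ bWE p E := od_mem hG hE hEs hs.pow_data.1 (hA q hq)
    have hx1 : x ≠ 1 := fun h1 => hqW (hinj q hq (hs.mem_bZ_of_fixed hE
      (hxE.commutator_core_V hE (commutator_mem_commutator hq huV)) h1))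
    have hcomm : ∀ a ∈ E, ∀ b ∈ E, a * (b * x * b⁻¹) * a⁻¹ = b * (a * x * a⁻¹) * b⁻¹ := by
      intro a ha b hb
      obtain ⟨f, hf, hfb⟩ := same_image hF ht hE hs hW.symm hb
      have key : ∀ y ∈ bWE p E, b * y * b⁻¹ = f * y * f⁻¹ := fun y hy => by
        have h1 := mem_centralizer_iff.1 hfb y (show y ∈ bWE p F from hW ▸ hy)
        calc b * y * b⁻¹ = f * (f⁻¹ * b * y) * b⁻¹ := by group
          _ = f * (y * (f⁻¹ * b)) * b⁻¹ := by rw [h1]
          _ = f * y * f⁻¹ := by group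
      rw [key x hxW, key _ (Baumann.conj_mem_of_le_normalizer (le_normalizer_bWE E) ha hxW)]
      exact hnc a ha f hf
    obtain ⟨a, ha, b, hb, hab⟩ := hs.noncomm hxE.three
    refine hab ?_
    have hy : b * (a * x * a⁻¹) * b⁻¹ ∈ bWE p E := Baumann.conj_mem_of_le_normalizer (le_normalizer_bWE E) hb
      (Baumann.conj_mem_of_le_normalizer (le_normalizer_bWE E) ha hxW)
    have habE : ⁅a, b⁆ ∈ E := by
      rw [commutatorElement_def]; exact mul_mem (mul_mem (mul_mem ha hb) (inv_mem ha)) (inv_mem hb)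
    refine hs.mem_core_of_fixed hE habE hy (fun h => hx1 ?_) (mul_inv_eq_iff_eq_mul.1 ?_)
    · rwa [conj_eq_one_iff, conj_eq_one_iff] at h
    · calc ⁅a, b⁆ * (b * (a * x * a⁻¹) * b⁻¹) * ⁅a, b⁆⁻¹ = a * (b * x * b⁻¹) * a⁻¹ := by
            simp only [commutatorElement_def]; group
        _ = b * (a * x * a⁻¹) * b⁻¹ := hcomm a ha b hb
  · -- disjoint modules: the image is too small
    have hch : ∀ q : ↥(pCoreOf p E), ∃ z : ↥(bZ p F), ⁅s * s, ⁅(q : G), u⁆⁆ = ⁅s * s, (z : G)⁆ := by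
      intro q
      have h1 : ⁅(q : G), u⁆ ∈ bW p F := commutatorElement_inv u (q : G) ▸ inv_mem (hA' _ (hQE q.2))
      obtain ⟨y, hy, z, hz, hyz⟩ := exists_mul_of_sup (bWE_le F) ((bWE_sup hF).ge h1)
      refine ⟨⟨z, hz⟩, ?_⟩
      have hyc : ⁅s * s, y⁆ = 1 := by
        rw [← commutatorElement_inv, inv_eq_one, ← mem_bot, ← hd]
        exact commutator_mem_commutator hy hs.pow_data.1
      rw [hyz, od_mul (bWE_le_bA hG hF hy) (hxF.bZ_le_bA hF hFs ht hz), hyc, one_mul]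
    choose φ hφ using hch
    have hcard : ((bW p E).subgroupOf (pCoreOf p E)).index ≤ Nat.card ↥(bZ p F) := by
      refine Nat.card_le_card_of_injective (fun x : ↥(pCoreOf p E) ⧸ (bW p E).subgroupOf (pCoreOf p E) =>
        φ x.out) fun x y hxy => ?_
      have h1 : ⁅s * s, ⁅((x.out : ↥(pCoreOf p E)) : G), u⁆⁆ =
          ⁅s * s, ⁅((y.out : ↥(pCoreOf p E)) : G), u⁆⁆ := by
        rw [hφ, hφ]; exact congrArg (fun z : ↥(bZ p F) => ⁅s * s, (z : G)⁆) hxy
      set a := ((x.out : ↥(pCoreOf p E)) : G)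
      set b := ((y.out : ↥(pCoreOf p E)) : G)
      have haQ : a ∈ pCoreOf p E := x.out.2
      have hbQ : b ∈ pCoreOf p E := y.out.2
      have habQ : a⁻¹ * b ∈ pCoreOf p E := mul_mem (inv_mem haQ) hbQ
      have h2 : ⁅s * s, ⁅a⁻¹ * b, u⁆⁆ = 1 := by
        have h3 := hxE.bracket_mul_left hE haQ habQ huV
        rw [mul_inv_cancel_left] at h3
        rw [h3, od_mul (hA _ habQ) (hA a haQ)] at h1
        exact mul_eq_right.1 h1.symm
      rw [← QuotientGroup.out_eq' x, ← QuotientGroup.out_eq' y, QuotientGroup.eq]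
      exact hinj _ habQ (hs.mem_bZ_of_fixed hE
        (hxE.commutator_core_V hE (commutator_mem_commutator habQ huV)) h2)
    rw [hxE.index_eq, hs.cardW, hxF.card_bZ ht] at hcard
    exact absurd hcard (not_le.2 (lt_self_pow₀ (Fact.out : p.Prime).one_lt one_lt_two))

/-- `[O_p(G), F]` centralises `O_p(E)` modulo `Z`. -/
theorem commutator_le_v1 (hG : centralizer (pCore p G : Set G) ≤ pCore p G)
    (hE : IsBaumannBlock p (T : Subgroup G) E) (hEs : E.IsSubnormal) {s : G} (hs : Solv p E s)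
    (hF : IsBaumannBlock p (T' : Subgroup G) F) (hFs : F.IsSubnormal) {t : G} (ht : Solv p F t)
    (hrel : bWE p E = bWE p F ∨ (⁅bWE p E, F⁆ = ⊥ ∧ ⁅bWE p F, E⁆ = ⊥)) :
    ⁅pCore p G, F⁆ ≤ v1 p E := by
  haveI := normal_pCore' (p := p) (G := G)
  intro u hu
  have huV : u ∈ pCore p G := commutator_le_left _ _ hu
  rcases core_eq_or_exc hE with hQE | hxE
  · exact mem_v1 hE huV fun q hq =>
      Block.commutator_pCore_le hE (commutator_mem_commutator (hQE.le hq) huV)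
  rcases core_eq_or_exc hF with hQF | hxF
  · refine mem_v1 hE huV fun q hq => ?_
    rw [commutatorElement_eq_one_iff_mul_comm.2
      (bA_central (bWE_le_bA hG hF (commutator_V_le_bWE hF hQF hu)) (core_le_pCore hEs hq))]
    exact one_mem _
  · exact core_le_v1 hG hE hEs hs hxE hF hFs ht hxF hrel (commutator_V_le_core hF hu)

end CfsgLib.LocalEven.SubBlock
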