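import Mathlib
import Cfsg.Agent.Lib.LocalEven.SubBlock.Bracket

/-!
Elements centralising `W_E` and `O_p(G)` modulo `v1`, for an exceptional block.
-/

set_option autoImplicit false

namespace CfsgLib.LocalEven.SubBlock

open Subgroup Cfsg
open scoped Pointwise commutatorElement

variable {G : Type*} [Group G] [Finite G] {p : ℕ} [Fact p.Prime] {T : Sylow p G} {E : Subgroup G}

attribute [local instance] normal_pCore'

/-- The elements above `O_p(G)` which can occur in another block. -/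
def bC (p : ℕ) {G : Type*} [Group G] [Finite G] (E : Subgroup G) : Subgroup G :=
  bR p G ⊓ centralizer (bWE p E : Set G) ⊓ stab (pCore p G) (v1 p E)

theorem bC_le_bR : bC p E ≤ bR p G := fun _ h => h.1.1

theorem bC_le_centralizer : bC p E ≤ centralizer (bWE p E : Set G) := fun _ h => h.1.2

theorem bC_le_stab : bC p E ≤ stab (pCore p G) (v1 p E) := fun _ h => h.2

theorem normalizer_le_bC {g : G} (hg : g ∈ normalizer (E : Set G)) : g ∈ normalizer (bC p E : Set G) :=
  Baumann.normalizer_inf_le _ _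
    ⟨Baumann.normalizer_inf_le _ _
      ⟨mem_normalizer_normal g, CfsgLib.LocalEven.Oz.mem_normalizer_centralizer (normalizer_le_bWE E hg)⟩,
    relCent_normalized (le_normalizer (mem_normalizer_normal g)) (mem_normalizer_normal g) (normalizer_le_v1 hg)⟩

theorem mem_of_mem_sup_pGroup {X V : Subgroup G} (hV : IsPGroup p ↥V) (hn : V ≤ normalizer (X : Set G))
    {c : G} (hc : c ∈ X ⊔ V) (hco : (orderOf c).Coprime p) : c ∈ X := by
  haveI : (X.subgroupOf (X ⊔ V)).Normal := normal_subgroupOf_of_le_normalizer (sup_le le_normalizer hn)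
  set f := QuotientGroup.mk' (X.subgroupOf (X ⊔ V)) with hf
  have h1 : c ∈ (↑(X ⊔ V) : Set G) := hc
  rw [coe_mul_of_right_le_normalizer_left X V hn] at h1
  obtain ⟨x, hx, v, hv, rfl⟩ := h1
  obtain ⟨k, hk⟩ := hV ⟨v, hv⟩
  have h2 : f ⟨x * v, hc⟩ = f ⟨v, mem_sup_right hv⟩ := by
    rw [hf, QuotientGroup.mk'_apply, QuotientGroup.mk'_apply, eq_comm, QuotientGroup.eq]
    show v⁻¹ * (x * v) ∈ X
    exact mul_assoc v⁻¹ x v ▸ (mem_normalizer_iff''.1 (hn hv) x).1 hx
  have h3 : f ⟨x * v, hc⟩ ^ p ^ k = 1 := by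
    rw [h2, ← map_pow]
    have : (⟨v, mem_sup_right hv⟩ : ↥(X ⊔ V)) ^ p ^ k = 1 :=
      Subtype.ext (by simpa using congrArg Subtype.val hk)
    rw [this, map_one]
  have h4 : f ⟨x * v, hc⟩ = 1 :=
    orderOf_eq_one_iff.1 (Nat.eq_one_of_dvd_coprimes (hco.pow_right k)
      ((orderOf_map_dvd f _).trans (by rw [orderOf_mk])) (orderOf_dvd_of_pow_eq_one h3))
  exact (QuotientGroup.eq_one_iff (⟨x * v, hc⟩ : ↥(X ⊔ V))).1 h4

section Exc

variable {s : G}

theorem pCore_le_bC (hG : centralizer (pCore p G : Set G) ≤ pCore p G)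
    (hE : IsBaumannBlock p (T : Subgroup G) E) (hEs : E.IsSubnormal)
    (hx : Exc p (T : Subgroup G) E) (hs : Solv p E s) : pCore p G ≤ bC p E := by
  intro v hv
  refine ⟨⟨pCore_le_bR hv, mem_centralizer_iff.2 fun w hw => (bA_central (bWE_le_bA hG hE hw) hv).symm⟩, ?_⟩
  refine mem_stab_of_le relCent_le (mem_normalizer_normal v) fun a ha => mem_v1 hE ?_ fun q hq => ?_
  · rw [commutatorElement_def]; exact mul_mem (mul_mem (mul_mem ha hv) (inv_mem ha)) (inv_mem hv)
  · have hA : ∀ b ∈ pCore p G, ⁅q, b⁆ ∈ bA p G := fun b hb =>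
      hx.bW_le_bA' hG hE hEs hs (hx.commutator_core_V hE (commutator_mem_commutator hq hb))
    have hinv : ∀ b ∈ pCore p G, ⁅q, b⁻¹⁆ = ⁅q, b⁆⁻¹ := fun b hb => by
      rw [eq_inv_iff_mul_eq_one, ← hx.bracket_mul_right hG hE hEs hs hq (inv_mem hb) hb, inv_mul_cancel,
        commutatorElement_one_right]
    rw [commutatorElement_def a v, hx.bracket_mul_right hG hE hEs hs hq (mul_mem (mul_mem ha hv) (inv_mem ha)) (inv_mem hv),
      hx.bracket_mul_right hG hE hEs hs hq (mul_mem ha hv) (inv_mem ha),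
      hx.bracket_mul_right hG hE hEs hs hq ha hv, hinv a ha, hinv v hv,
      bA_comm _ (hA a ha) _ (hA v hv), mul_inv_cancel_right, mul_inv_cancel]
    exact one_mem _

theorem Exc.core_le_v1 (hE : IsBaumannBlock p (T : Subgroup G) E) (hEs : E.IsSubnormal)
    (hx : Exc p (T : Subgroup G) E) : pCoreOf p E ≤ v1 p E := fun _ hq =>
  mem_v1 hE (core_le_pCore hEs hq) fun _ hr => hx.derived.le (commutator_mem_commutator hr hq)

theorem Exc.commutator_v1_centralized (hE : IsBaumannBlock p (T : Subgroup G) E) (hEs : E.IsSubnormal)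
    (hx : Exc p (T : Subgroup G) E) (hs : Solv p E s) : ⁅⁅v1 p E, v1 p E⁆, E⁆ = ⊥ := by
  have hEV := Block.pCore_le_normalizer hE
  have hVZ : pCore p G ≤ normalizer (bZ p E : Set G) := hEV.trans (normalizer_le_bZ E)
  have h : ⁅v1 p E, v1 p E⁆ ≤ stab E (bZ p E) := by
    rw [commutator_le]
    intro a ha b hb
    have hab : ⁅a, b⁆ ∈ pCore p G := by
      rw [commutatorElement_def]
      exact mul_mem (mul_mem (mul_mem ha.1 hb.1) (inv_mem ha.1)) (inv_mem hb.1)
    have habU : ⁅a, b⁆ ∈ v1 p E := by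
      rw [commutatorElement_def]; exact mul_mem (mul_mem (mul_mem ha hb) (inv_mem ha)) (inv_mem hb)
    refine ⟨hEV hab, hVZ hab, fun e he => ?_⟩
    obtain ⟨q, hq, hqe⟩ : ∃ q ∈ pCoreOf p E, e * a * e⁻¹ = q * a := by
      refine ⟨⁅e, a⁆, ?_, conj_eq_comm_mul e a⟩
      rw [← commutatorElement_inv]
      exact inv_mem (commutator_V_le_core hE (commutator_mem_commutator ha.1 he))
    obtain ⟨r, hr, hre⟩ : ∃ r ∈ pCoreOf p E, e * b * e⁻¹ = r * b := by
      refine ⟨⁅e, b⁆, ?_, conj_eq_comm_mul e b⟩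
      rw [← commutatorElement_inv]
      exact inv_mem (commutator_V_le_core hE (commutator_mem_commutator hb.1 he))
    have hqV := core_le_pCore (p := p) hEs hq
    have hrV := core_le_pCore (p := p) hEs hr
    have hconj : ∀ {g z : G}, g ∈ pCore p G → z ∈ bZ p E → g * z * g⁻¹ ∈ bZ p E := fun hg hz =>
      Baumann.conj_mem_of_le_normalizer hVZ hg hz
    have h1 : ⁅a, r⁆ ∈ bZ p E := commutatorElement_inv r a ▸ inv_mem (ha.2.2 r hr)
    have e1 : ⁅e, ⁅a, b⁆⁆ = (q * ⁅a, r⁆ * q⁻¹) * ⁅q * r, ⁅a, b⁆⁆ *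
        (⁅a, b⁆ * (⁅q, r⁆ * (r * ⁅q, b⁆ * r⁻¹)) * ⁅a, b⁆⁻¹) := by
      calc ⁅e, ⁅a, b⁆⁆ = ⁅e * a * e⁻¹, e * b * e⁻¹⁆ * ⁅a, b⁆⁻¹ := by
            simp only [commutatorElement_def]; group
        _ = _ := by rw [hqe, hre]; simp only [commutatorElement_def]; group
    rw [e1]
    exact mul_mem (mul_mem (hconj hqV h1) (habU.2.2 _ (mul_mem hq hr)))
      (hconj hab (mul_mem (hx.derived.le (commutator_mem_commutator hq hr)) (hconj hrV (hb.2.2 q hq))))
  refine commutator_eq_bot_of_coprime ((isPGroup_bW E).to_le inf_le_left) hE.1 ?_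
    (commutator_eq_bot_iff_le_centralizer.2 inf_le_right)
  rw [commutator_comm]
  exact commutator_le.2 fun e he k hk => (h hk).2.2 e he

/-- The data of a complement to `O_p(G)` in `bC`. -/
structure Comp (p : ℕ) (E P : Subgroup G) : Prop where
  le : P ≤ bC p E
  two : IsPGroup 2 ↥P
  sup : bC p E ≤ P ⊔ pCore p G

/-- `⁅U, P⁆ K`. -/
abbrev pPart (p : ℕ) (E P : Subgroup G) : Subgroup G := ⁅v1 p E, P⁆ ⊔ ⁅v1 p E, v1 p E⁆

variable {P : Subgroup G}

theorem normalizer_v1_le_K {g : G} (hg : g ∈ normalizer (v1 p E : Set G)) :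
    g ∈ normalizer ((⁅v1 p E, v1 p E⁆ : Subgroup G) : Set G) :=
  CfsgLib.Solvable.normalizer_le_normalizer_commutator _ _ ⟨hg, hg⟩

theorem Comp.le_normalizer_v1 (hP : Comp p E P) : P ≤ normalizer (v1 p E : Set G) :=
  fun _ hπ => (bC_le_stab (hP.le hπ)).2.1

theorem Comp.pPart_le (hP : Comp p E P) : pPart p E P ≤ v1 p E :=
  sup_le (CfsgLib.Solvable.commutator_le_of_le_normalizer hP.le_normalizer_v1)
    (CfsgLib.Solvable.commutator_le_of_le_normalizer le_normalizer)

theorem Comp.le_normalizer_pPart (hP : Comp p E P) :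
    v1 p E ≤ normalizer (pPart p E P : Set G) ∧ P ≤ normalizer (pPart p E P : Set G) := by
  constructor <;> intro x hx <;>
    refine CfsgLib.LocalEven.mem_normalizer_of_conj_le (le_of_eq_of_le (Subgroup.map_sup _ _ _)
      (sup_le_sup (mem_normalizer_iff_map_conj_eq.1 ?_).le (mem_normalizer_iff_map_conj_eq.1 ?_).le))
  · exact CfsgLib.Solvable.le_normalizer_commutator_left _ _ hx
  · exact normalizer_v1_le_K (le_normalizer hx)
  · exact CfsgLib.Solvable.le_normalizer_commutator_right hP.le_normalizer_v1 hx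
  · exact normalizer_v1_le_K (hP.le_normalizer_v1 hx)

theorem Comp.conj_mem (hp : p = 3) (hE : IsBaumannBlock p (T : Subgroup G) E) (hP : Comp p E P)
    {x π : G} (hC : x ∈ normalizer (bC p E : Set G)) (hπ : π ∈ P) : x * π * x⁻¹ ∈ v1 p E ⊔ P := by
  have hc : x * π * x⁻¹ ∈ bC p E := (mem_normalizer_iff.1 hC π).1 (hP.le hπ)
  refine mem_of_mem_sup_pGroup (p := p) (CfsgLib.Cores.isPGroup_pCore p) ?_
    ((hP.sup.trans (sup_le_sup le_sup_right le_rfl)) hc) ?_
  · intro v hv
    refine CfsgLib.LocalEven.mem_normalizer_of_conj_le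
      (le_of_eq_of_le (Subgroup.map_sup _ _ _) (sup_le ?_ ?_))
    · exact (mem_normalizer_iff_map_conj_eq.1
        (normalizer_le_v1 (Block.pCore_le_normalizer hE hv))).le.trans le_sup_left
    · rintro _ ⟨y, hy, rfl⟩
      show v * y * v⁻¹ ∈ v1 p E ⊔ P
      rw [conj_eq_comm_mul]
      exact mul_mem (mem_sup_left ((bC_le_stab (hP.le hy)).2.2 v hv)) (mem_sup_right hy)
  · rw [← MulAut.conj_apply, MulEquiv.orderOf_eq]
    obtain ⟨k, hk⟩ := IsPGroup.iff_orderOf.1 hP.two ⟨π, hπ⟩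
    rw [Subgroup.orderOf_mk] at hk
    rw [hk, hp]
    exact Nat.Coprime.pow_left k (by norm_num)

theorem Comp.normalized (hp : p = 3) (hE : IsBaumannBlock p (T : Subgroup G) E) (hP : Comp p E P)
    {x : G} (hC : x ∈ normalizer (bC p E : Set G)) (hU : x ∈ normalizer (v1 p E : Set G)) :
    x ∈ normalizer (pPart p E P : Set G) := by
  refine CfsgLib.LocalEven.mem_normalizer_of_conj_le ?_
  have hUm : (v1 p E).map (MulAut.conj x).toMonoidHom = v1 p E := mem_normalizer_iff_map_conj_eq.1 hU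
  have hKm : (⁅v1 p E, v1 p E⁆ : Subgroup G).map (MulAut.conj x).toMonoidHom = ⁅v1 p E, v1 p E⁆ :=
    mem_normalizer_iff_map_conj_eq.1 (normalizer_v1_le_K hU)
  refine (Subgroup.map_sup _ _ _).trans_le (sup_le ?_ ?_)
  · rw [map_commutator, hUm]
    refine (commutator_mono le_rfl (show P.map (MulAut.conj x).toMonoidHom ≤ v1 p E ⊔ P from ?_)).trans ?_
    · rintro _ ⟨π, hπ, rfl⟩
      exact hP.conj_mem hp hE hC hπ
    · exact commutator_sup_le le_sup_right le_sup_left hP.le_normalizer_pPart.1 hP.le_normalizer_pPart.2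
  · rw [hKm]
    exact le_sup_right

/-- Conjugation on `U`. -/
def uConj (U : Subgroup G) (g : G) (hg : g ∈ normalizer (U : Set G)) : ↥U →* ↥U where
  toFun u := ⟨g * u * g⁻¹, (mem_normalizer_iff.1 hg u).1 u.2⟩
  map_one' := Subtype.ext (by simp)
  map_mul' a b := Subtype.ext (by
    show g * ((a : G) * b) * g⁻¹ = g * a * g⁻¹ * (g * b * g⁻¹)
    group)

theorem mem_K_of_mem_commutator {U : Subgroup G} {y : ↥U} (h : y ∈ _root_.commutator ↥U) :
    (y : G) ∈ ⁅U, U⁆ := by
  have h1 : (y : G) ∈ (_root_.commutator ↥U).map U.subtype := ⟨y, h, rfl⟩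
  rwa [commutator_def, map_commutator, ← MonoidHom.range_eq_map, range_subtype] at h1

/-- The averaging map decomposes `U`. -/
theorem norm_facts {U P : Subgroup G} (hPU : P ≤ normalizer (U : Set G)) :
    (∀ w ∈ ⁅U, P⁆ ⊔ ⁅U, U⁆, w ∈ U → (∀ π ∈ P, π * w = w * π) → w ^ Nat.card ↥P ∈ ⁅U, U⁆) ∧
      ∀ u ∈ U, u ^ Nat.card ↥P ∈ (⁅U, P⁆ ⊔ ⁅U, U⁆) ⊔ relCent U (P : Set G) ⁅U, U⁆ := by
  classical
  haveI : Fintype ↥P := Fintype.ofFinite _
  let c : ↥P → (↥U →* ↥U) := fun π => uConj U π (hPU π.2)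
  have hc : ∀ a b : ↥P, ∀ y, c a (c b y) = c (a * b) y := fun a b y => Subtype.ext (by
    show (a : G) * ((b : G) * y * (b : G)⁻¹) * (a : G)⁻¹ = ((a : G) * b) * y * ((a : G) * b)⁻¹
    group)
  let N : ↥U →* Abelianization ↥U := ∏ π : ↥P, Abelianization.of.comp (c π)
  have hN : ∀ y, N y = ∏ π : ↥P, Abelianization.of (c π y) := fun y => by
    simp only [N, MonoidHom.finsetProd_apply, MonoidHom.comp_apply]
  have hK : ∀ y : ↥U, Abelianization.of y = 1 → (y : G) ∈ ⁅U, U⁆ := fun y hy =>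
    mem_K_of_mem_commutator ((QuotientGroup.eq_one_iff y).1 hy)
  constructor
  · intro w hw hwU hwP
    have hle : ⁅U, P⁆ ⊔ ⁅U, U⁆ ≤ N.ker.map U.subtype := by
      refine sup_le (commutator_le.2 fun u hu π hπ => ?_) (commutator_le.2 fun a ha b hb => ?_)
      · refine ⟨⟨u, hu⟩ * c ⟨π, hπ⟩ (⟨u, hu⟩⁻¹), ?_, ?_⟩
        · have hshift : ∀ y, N (c ⟨π, hπ⟩ y) = N y := fun y => by
            rw [hN, hN]
            exact Fintype.prod_equiv (Equiv.mulRight (⟨π, hπ⟩ : ↥P)) _ _ fun a => by rw [hc]; rfl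
          show N _ = 1
          rw [map_mul, hshift, ← map_mul, mul_inv_cancel, map_one]
        · show u * (π * u⁻¹ * π⁻¹) = ⁅u, π⁆
          rw [commutatorElement_def]; group
      · refine ⟨⁅(⟨a, ha⟩ : ↥U), ⟨b, hb⟩⁆, ?_, map_commutatorElement U.subtype _ _⟩
        show N _ = 1
        rw [map_commutatorElement, commutatorElement_eq_one_iff_mul_comm, mul_comm]
    obtain ⟨y, hy, hyw⟩ := hle hw
    have hcy : ∀ π : ↥P, c π y = y := fun π => Subtype.ext (by
      show (π : G) * y * (π : G)⁻¹ = y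
      rw [show (y : G) = w from hyw, hwP π π.2, mul_inv_cancel_right])
    have h1 : Abelianization.of (y ^ Nat.card ↥P) = 1 := by
      have : N y = 1 := hy
      rw [hN, Finset.prod_congr rfl (fun π _ => congrArg _ (hcy π)), Finset.prod_const, Finset.card_univ] at this
      rw [map_pow, Nat.card_eq_fintype_card]; exact this
    have h2 := hK _ h1
    rwa [SubmonoidClass.coe_pow, show (y : G) = w from hyw] at h2
  · intro u hu
    set H := ((⁅U, P⁆ ⊔ ⁅U, U⁆) ⊔ relCent U (P : Set G) ⁅U, U⁆) with hH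
    set Y := (H.subgroupOf U).map (Abelianization.of (G := ↥U)) with hY
    obtain ⟨y, hy⟩ := QuotientGroup.mk_surjective (N ⟨u, hu⟩)
    have hy' : Abelianization.of y = N ⟨u, hu⟩ := hy
    have hfix : ∀ π0 : ↥P, Abelianization.of (c π0 y) = Abelianization.of y := fun π0 => by
      rw [← Abelianization.map_of (c π0), hy', hN, map_prod]
      refine Fintype.prod_equiv (Equiv.mulLeft π0) _ _ fun a => ?_
      rw [Abelianization.map_of, hc]; rfl
    have hyS : (y : G) ∈ relCent U (P : Set G) ⁅U, U⁆ := by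
      refine ⟨y.2, CfsgLib.Solvable.normalizer_le_normalizer_commutator _ _
        ⟨le_normalizer y.2, le_normalizer y.2⟩, fun π hπ => ?_⟩
      have := hK (c ⟨π, hπ⟩ y * y⁻¹) (by rw [map_mul, map_inv, hfix, mul_inv_cancel])
      exact this
    have hmem : Abelianization.of ((⟨u, hu⟩ : ↥U) ^ Nat.card ↥P) ∈ Y := by
      have e1 : Abelianization.of ((⟨u, hu⟩ : ↥U) ^ Nat.card ↥P) =
          N ⟨u, hu⟩ * ∏ π : ↥P, Abelianization.of (⟨u, hu⟩ * (c π ⟨u, hu⟩)⁻¹) := by
        rw [hN, ← Finset.prod_mul_distrib, Finset.prod_congr rfl (g := fun _ => Abelianization.of (⟨u, hu⟩ : ↥U)),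
          Finset.prod_const, Finset.card_univ, map_pow, Nat.card_eq_fintype_card]
        intro π _
        rw [map_mul, map_inv]
        exact mul_inv_cancel_comm_assoc _ _
      rw [e1]
      refine mul_mem ⟨y, mem_sup_right hyS, hy'⟩ (prod_mem fun π _ => ⟨_, mem_sup_left (mem_sup_left ?_), rfl⟩)
      have h3 : (u : G) * ((π : G) * u * (π : G)⁻¹)⁻¹ = ⁅(u : G), (π : G)⁆ := by
        rw [commutatorElement_def]; group
      show u * ((π : G) * u * (π : G)⁻¹)⁻¹ ∈ ⁅U, P⁆
      rw [h3]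
      exact commutator_mem_commutator hu π.2
    obtain ⟨x, hx, hxe⟩ := hmem
    have h4 : ((x : G))⁻¹ * u ^ Nat.card ↥P ∈ ⁅U, U⁆ := hK (x⁻¹ * ⟨u, hu⟩ ^ Nat.card ↥P) (by
      rw [map_mul, map_inv, hxe, inv_mul_cancel])
    have h5 := mul_mem (mem_subgroupOf.1 hx) (mem_sup_left (T := relCent U (P : Set G) ⁅U, U⁆)
      (mem_sup_right (S := ⁅U, P⁆) h4))
    rwa [mul_inv_cancel_left] at h5

theorem Comp.coprime_card (hp : p = 3) (hP : Comp p E P) (k : ℕ) : (Nat.card ↥P).Coprime (p ^ k) := by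
  obtain ⟨n, hn⟩ := IsPGroup.iff_card.1 hP.two
  rw [hn, hp]
  exact Nat.Coprime.pow n k (by norm_num)

theorem Comp.pPart_inf_le (hx : Exc p (T : Subgroup G) E) (hE : IsBaumannBlock p (T : Subgroup G) E)
    (hEs : E.IsSubnormal) (hs : Solv p E s) (hP : Comp p E P) : pPart p E P ⊓ bW p E ≤ bZ p E := by
  have hEN : E ≤ normalizer (pPart p E P : Set G) := fun e he =>
    hP.normalized hx.three hE (normalizer_le_bC (le_normalizer he)) (normalizer_le_v1 (le_normalizer he))
  have hYN : E ≤ normalizer ((pPart p E P ⊓ bW p E : Subgroup G) : Set G) :=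
    fun e he => Baumann.normalizer_inf_le _ _ ⟨hEN he, le_normalizer_bW E he⟩
  rcases (BlockModule.isBlockModule_of_block hE).1 ((pPart p E P ⊓ bW p E) ⊔ bZ p E) le_sup_right
      (sup_le inf_le_right inf_le_left) (sup_bZ_normalized hYN) with h | h
  · exact le_sup_left.trans h.le
  exfalso
  have h1 : bWE p E ≤ pPart p E P := by
    show ⁅bW p E, E⁆ ≤ pPart p E P
    rw [commutator_le]
    intro x hx e he
    obtain ⟨y, hy, z, hz, rfl⟩ := exists_mul_of_sup inf_le_right (h.ge hx)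
    rw [commutator_mul_bZ hz he, commutatorElement_def, mul_assoc, mul_assoc]
    exact mul_mem hy.1 (by simpa [mul_assoc] using Baumann.conj_mem_of_le_normalizer hEN he (inv_mem hy.1))
  refine bWE_not_le hE (le_trans (le_of_eq (eq_bot_iff.2 fun w hw => ?_)) bot_le)
  have hwc : ∀ π ∈ P, π * w = w * π := fun π hπ =>
    (mem_centralizer_iff.1 (bC_le_centralizer (hP.le hπ)) w hw).symm
  have h2 := (norm_facts hP.le_normalizer_v1).1 w (h1 hw) (hP.pPart_le (h1 hw)) hwc
  have hw3 : w ^ p ^ 1 = 1 := by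
    rw [pow_one]; exact (CfsgLib.LocalEven.Oz.elemAb (p := p) (pCoreOf p E)).2 w (bWE_le E hw)
  have h3 : w ∈ ⁅v1 p E, v1 p E⁆ := mem_of_coprime_pows (hP.coprime_card hx.three 1) h2
    (by rw [hw3]; exact one_mem _)
  rw [← hs.bWE_inf hE]
  exact ⟨hw, commutator_eq_bot_iff_le_centralizer.1 (hx.commutator_v1_centralized hE hEs hs) h3⟩

theorem baumann_not_le_centralizer (hE : IsBaumannBlock p (T : Subgroup G) E) :
    ∃ b ∈ baumannSubgroupOf p (T : Subgroup G), b ∉ centralizer (bW p E : Set G) := by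
  by_contra hc
  push Not at hc
  have h1 : ⁅baumannSubgroupOf p (T : Subgroup G), bW p E⁆ = ⊥ := commutator_eq_bot_iff_le_centralizer.2 hc
  have h2 : ⁅⁅bW p E, E⁆, baumannSubgroupOf p (T : Subgroup G)⁆ = ⊥ := by
    rw [commutator_comm, eq_bot_iff]
    exact (commutator_mono le_rfl (bWE_le E)).trans h1.le
  have h3 := commutator_commutator_eq_bot_of_rotate (H₁ := E) (H₂ := baumannSubgroupOf p (T : Subgroup G))
    (H₃ := bW p E) (by rw [h1, commutator_bot_left]) h2
  rw [hE.2.1] at h3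
  refine bWE_not_le hE ?_
  show ⁅bW p E, E⁆ ≤ bZ p E
  rw [commutator_comm, h3]; exact bot_le

theorem card_eq_mul_index {H K : Subgroup G} (h : H ≤ K) :
    Nat.card ↥K = (H.subgroupOf K).index * Nat.card ↥H := by
  rw [← card_mul_index (H.subgroupOf K), Nat.card_congr (subgroupOfEquivOfLe h).toEquiv, mul_comm]

theorem Comp.pPart_inf_core_le (hx : Exc p (T : Subgroup G) E) (hE : IsBaumannBlock p (T : Subgroup G) E)
    (hEs : E.IsSubnormal) (hs : Solv p E s) (hP : Comp p E P) : pPart p E P ⊓ pCoreOf p E ≤ bW p E := by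
  set A1 := pPart p E P ⊓ pCoreOf p E with hA1
  have hN : ∀ g ∈ normalizer (E : Set G), g ∈ normalizer (A1 : Set G) := fun g hg =>
    Baumann.normalizer_inf_le _ _
      ⟨hP.normalized hx.three hE (normalizer_le_bC hg) (normalizer_le_v1 hg), Block.normalizer_le_pCoreOf E hg⟩
  have hQW : pCoreOf p E ≤ normalizer (bW p E : Set G) :=
    (CfsgLib.LocalEven.pCoreOf_le p E).trans (le_normalizer_bW E)
  have hA1W : A1 ≤ normalizer (bW p E : Set G) := inf_le_right.trans hQW
  rcases hx.irr (A1 ⊔ bW p E) le_sup_right (sup_le inf_le_right (bW_le_core E))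
      (fun e he => CfsgLib.LocalEven.mem_normalizer_of_conj_le (le_of_eq_of_le (Subgroup.map_sup _ _ _)
        (sup_le_sup (mem_normalizer_iff_map_conj_eq.1 (hN e (le_normalizer he))).le
          (mem_normalizer_iff_map_conj_eq.1 (le_normalizer_bW E he)).le))) with h | h
  · exact le_sup_left.trans h.le
  exfalso
  obtain ⟨b, hb, hbW⟩ := baumann_not_le_centralizer hE
  refine hx.nonquad b hb hbW ?_
  set X := zpowers b with hX
  have hXp : IsPGroup p ↥X := T.2.to_le (zpowers_le.2 (Baumann.baumann_le _ hb))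
  have hXE : X ≤ normalizer (E : Set G) := zpowers_le.2 (Block.baumann_le_normalizer hE hb)
  have hXQ := hXE.trans (Block.normalizer_le_pCoreOf (p := p) E)
  have hXW := hXE.trans (normalizer_le_bW (p := p) E)
  have hXZ := hXE.trans (normalizer_le_bZ (p := p) E)
  have hQZ : pCoreOf p E ≤ normalizer (bZ p E : Set G) :=
    (CfsgLib.LocalEven.pCoreOf_le p E).trans (le_normalizer_bZ E)
  have hq1 : ⁅⁅pCoreOf p E, X⁆, X⁆ ≤ bW p E := by
    refine quad_section (CfsgLib.LocalEven.isPGroup_pCoreOf p E) hXp (bW_le_core E) ?_ hXQ hQW hXW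
    rw [card_eq_mul_index (bW_le_core E), hx.index_eq, hs.cardW]
  have hq2 : ⁅⁅bW p E, X⁆, X⁆ ≤ bZ p E := by
    refine quad_section (isPGroup_bW E) hXp inf_le_left ?_ hXW ((bW_le_core E).trans hQZ) hXZ
    rw [card_eq_mul_index inf_le_left, hs.cardW]
  have hgen : ∀ q ∈ pCoreOf p E, ∀ x ∈ X, ∀ y ∈ X, ⁅y, ⁅q, x⁆⁆ ∈ bZ p E := by
    intro q hq x hx' y hy
    have h1 : q ∈ (↑(A1 ⊔ bW p E) : Set G) := h.ge hq
    rw [coe_mul_of_left_le_normalizer_right A1 (bW p E) hA1W] at h1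
    obtain ⟨a, ha, w, hw, rfl⟩ := h1
    have hwx : ⁅w, x⁆ ∈ bW p E :=
      CfsgLib.Solvable.commutator_le_of_le_normalizer hXW (commutator_mem_commutator hw hx')
    have hax : ⁅a, x⁆ ∈ A1 := CfsgLib.Solvable.commutator_le_of_le_normalizer
      (fun g hg => hN g (hXE hg)) (commutator_mem_commutator ha hx')
    have h2 : ⁅⁅a, x⁆, y⁆ ∈ bZ p E := by
      refine hP.pPart_inf_le hx hE hEs hs (Subgroup.mem_inf.2 ⟨(Subgroup.mem_inf.1
        (CfsgLib.Solvable.commutator_le_of_le_normalizer (fun g hg => hN g (hXE hg))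
          (commutator_mem_commutator hax hy))).1, ?_⟩)
      exact hq1 (commutator_mem_commutator (commutator_mem_commutator ha.2 hx') hy)
    have h3 : ⁅⁅w, x⁆, y⁆ ∈ bZ p E :=
      hq2 (commutator_mem_commutator (commutator_mem_commutator hw hx') hy)
    have e1 : ⁅a * w, x⁆ = ⁅w, x⁆ * ⁅a, x⁆ := by
      rw [show ⁅a * w, x⁆ = a * ⁅w, x⁆ * a⁻¹ * ⁅a, x⁆ by simp only [commutatorElement_def]; group,
        core_comm ha.2 hwx, mul_inv_cancel_right]
    show ⁅y, ⁅a * w, x⁆⁆ ∈ bZ p E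
    rw [← commutatorElement_inv, e1, show ⁅⁅w, x⁆ * ⁅a, x⁆, y⁆ =
      ⁅w, x⁆ * ⁅⁅a, x⁆, y⁆ * ⁅w, x⁆⁻¹ * ⁅⁅w, x⁆, y⁆ by simp only [commutatorElement_def]; group]
    exact inv_mem (mul_mem (Baumann.conj_mem_of_le_normalizer hQZ (bW_le_core E hwx) h2) h3)
  rw [commutator_comm]
  refine commutator_le_of_generators (S := {k | ∃ q ∈ pCoreOf p E, ∃ x ∈ X, ⁅q, x⁆ = k})
    ((CfsgLib.Solvable.commutator_le_of_le_normalizer hXQ).trans hQZ) (Subgroup.commutator_le.2 fun q hq x hx' => subset_closure ⟨q, hq, x, hx', rfl⟩) ?_ ?_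
  · rintro _ ⟨q, hq, x, hx', rfl⟩
    exact commutator_mem_commutator hq hx'
  · rintro y hy _ ⟨q, hq, x, hx', rfl⟩
    exact hgen q hq x hx' y hy

theorem Comp.core_le_rel (hG : centralizer (pCore p G : Set G) ≤ pCore p G)
    (hx : Exc p (T : Subgroup G) E) (hE : IsBaumannBlock p (T : Subgroup G) E)
    (hEs : E.IsSubnormal) (hs : Solv p E s) (hP : Comp p E P) :
    pCoreOf p E ≤ relCent (v1 p E) (P : Set G) ⁅v1 p E, v1 p E⁆ := by
  set K := ⁅v1 p E, v1 p E⁆ with hK
  set S := relCent (v1 p E) (P : Set G) K with hS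
  have hEU : ∀ e ∈ E, e ∈ normalizer (v1 p E : Set G) := fun e he => normalizer_le_v1 (le_normalizer he)
  have hEN : E ≤ normalizer (pPart p E P : Set G) := fun e he =>
    hP.normalized hx.three hE (normalizer_le_bC (le_normalizer he)) (hEU e he)
  have hPE : ⁅pPart p E P, E⁆ = ⊥ := by
    refine commutator_eq_bot_of_coprime ((isPGroup_bW E).to_le inf_le_left) hE.1 (fun y hy => ?_)
      (commutator_eq_bot_iff_le_centralizer.2 inf_le_right)
    have hy1 : y ∈ pPart p E P := CfsgLib.Solvable.commutator_le_of_le_normalizer hEN hy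
    have hy2 : y ∈ pCoreOf p E :=
      commutator_V_le_core hE (commutator_mono (hP.pPart_le.trans relCent_le) le_rfl hy)
    exact hP.pPart_inf_le hx hE hEs hs
      (Subgroup.mem_inf.2 ⟨hy1, hP.pPart_inf_core_le hx hE hEs hs (Subgroup.mem_inf.2 ⟨hy1, hy2⟩)⟩)
  have hKn : ∀ u ∈ v1 p E, u ∈ normalizer (K : Set G) := fun u hu => normalizer_v1_le_K (le_normalizer hu)
  have hES : E ≤ normalizer (S : Set G) := by
    intro e he
    refine CfsgLib.LocalEven.mem_normalizer_of_conj_le ?_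
    rintro _ ⟨u, hu, rfl⟩
    have hu1 := (mem_normalizer_iff.1 (hEU e he) u).1 hu.1
    refine ⟨hu1, hKn _ hu1, fun π hπ => ?_⟩
    have hm : e⁻¹ * π * e ∈ v1 p E ⊔ P := by
      have := hP.conj_mem hx.three hE (normalizer_le_bC (le_normalizer (inv_mem he))) hπ
      rwa [inv_inv] at this
    have h1 : ⁅u, e⁻¹ * π * e⁆ ∈ K := by
      refine (commutator_sup_le (W := zpowers u) (Z := K) ?_ ?_ ?_ ?_) (commutator_mem_commutator (mem_zpowers u) hm)
      · exact commutator_mono (zpowers_le.2 hu.1) le_rfl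
      · refine commutator_le.2 fun y hy π' hπ' => ?_
        have h0 : zpowers u ≤ S := zpowers_le.2 hu
        rw [← commutatorElement_inv]; exact inv_mem ((h0 hy).2.2 π' hπ')
      · exact fun v hv => hKn v hv
      · exact fun v hv => normalizer_v1_le_K (hP.le_normalizer_v1 hv)
    show ⁅π, e * u * e⁻¹⁆ ∈ K
    rw [show ⁅π, e * u * e⁻¹⁆ = (e * ⁅u, e⁻¹ * π * e⁆ * e⁻¹)⁻¹ by simp only [commutatorElement_def]; group]
    exact inv_mem ((mem_normalizer_iff.1 (normalizer_v1_le_K (hEU e he)) _).1 h1)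
  have hdec : v1 p E ≤ pPart p E P ⊔ S := by
    intro u hu
    obtain ⟨k, hk⟩ := CfsgLib.Cores.isPGroup_pCore p ⟨u, hu.1⟩
    exact mem_of_coprime_pows (hP.coprime_card hx.three k) ((norm_facts hP.le_normalizer_v1).2 u hu)
      (by rw [show u ^ p ^ k = 1 by simpa using congrArg Subtype.val hk]; exact one_mem _)
  set D := S ⊓ pCoreOf p E with hD
  have hUD : ∀ u ∈ v1 p E, u ∈ relCent (v1 p E) (E : Set G) D := by
    have hQn : ∀ u ∈ v1 p E, u ∈ normalizer (pCoreOf p E : Set G) := fun u hu =>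
      Block.normalizer_le_pCoreOf E (Block.pCore_le_normalizer hE hu.1)
    have hDE : ∀ e ∈ E, e ∈ normalizer (D : Set G) := fun e he => Baumann.normalizer_inf_le _ _
      ⟨hES he, CfsgLib.LocalEven.le_normalizer_pCoreOf p E he⟩
    refine fun u hu => (sup_le ?_ ?_ : pPart p E P ⊔ S ≤ relCent (v1 p E) (E : Set G) D) (hdec hu)
    · intro y hy
      have hyE : ∀ e ∈ E, e * y = y * e := fun e he =>
        mem_centralizer_iff.1 (commutator_eq_bot_iff_le_centralizer.1 hPE hy) e he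
      refine ⟨hP.pPart_le hy, Baumann.normalizer_inf_le _ _ ⟨?_, hQn y (hP.pPart_le hy)⟩, fun e he => ?_⟩
      · refine CfsgLib.LocalEven.mem_normalizer_of_conj_le ?_
        rintro _ ⟨z, hz, rfl⟩
        show y * z * y⁻¹ ∈ S
        rw [conj_eq_comm_mul]
        refine mul_mem ⟨?_, ?_, fun π hπ => ?_⟩ hz
        · rw [commutatorElement_def]
          exact mul_mem (mul_mem (mul_mem (hP.pPart_le hy) hz.1) (inv_mem (hP.pPart_le hy))) (inv_mem hz.1)
        · exact hKn _ (commutatorElement_def y z ▸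
            mul_mem (mul_mem (mul_mem (hP.pPart_le hy) hz.1) (inv_mem (hP.pPart_le hy))) (inv_mem hz.1))
        · exact CfsgLib.Solvable.commutator_le_of_le_normalizer
            (fun g hg => normalizer_v1_le_K (hP.le_normalizer_v1 hg))
            (commutator_comm P K ▸ commutator_mem_commutator hπ
              (commutator_mem_commutator (hP.pPart_le hy) hz.1))
      · rw [commutatorElement_eq_one_iff_mul_comm.2 (hyE e he)]; exact one_mem _
    · intro y hy
      refine ⟨hy.1, Baumann.normalizer_inf_le _ _ ⟨le_normalizer hy, hQn y hy.1⟩, fun e he => ?_⟩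
      refine Subgroup.mem_inf.2 ⟨?_, ?_⟩
      · rw [commutatorElement_def]; exact mul_mem ((mem_normalizer_iff.1 (hES he) y).1 hy) (inv_mem hy)
      · rw [← commutatorElement_inv]
        exact inv_mem (commutator_V_le_core hE (commutator_mem_commutator hy.1.1 he))
  have hQU := hx.core_le_v1 hE hEs
  rcases hx.irr (D ⊔ bW p E) le_sup_right (sup_le inf_le_right (bW_le_core E))
      (fun e he => CfsgLib.LocalEven.mem_normalizer_of_conj_le (le_of_eq_of_le (Subgroup.map_sup _ _ _)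
        (sup_le_sup (mem_normalizer_iff_map_conj_eq.1 (Baumann.normalizer_inf_le _ _
            ⟨hES he, CfsgLib.LocalEven.le_normalizer_pCoreOf p E he⟩)).le
          (mem_normalizer_iff_map_conj_eq.1 (le_normalizer_bW E he)).le))) with h | h
  · refine absurd ((CfsgLib.LocalEven.isPGroup_pCoreOf p E).to_le fun e he => hx.free e he fun q hq => ?_)
      (not_isPGroup hE)
    rw [← commutatorElement_inv]
    exact inv_mem (h.le (mem_sup_left ((hUD q (hQU hq)).2.2 e he)))
  · rw [← h]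
    refine sup_le inf_le_left ?_
    rw [← bWE_sup hE]
    refine sup_le (fun w hw => ⟨hQU (bW_le_core E (bWE_le E hw)), hKn _ (hQU (bW_le_core E (bWE_le E hw))),
      fun π hπ => ?_⟩) (fun z hz => ?_)
    · rw [commutatorElement_eq_one_iff_mul_comm.2
        (mem_centralizer_iff.1 (bC_le_centralizer (hP.le hπ)) w hw).symm]
      exact one_mem _
    · have hzK : z ∈ K := commutator_mono hQU hQU (hx.derived.ge hz)
      refine ⟨hQU (bW_le_core E hz.1), hKn _ (hQU (bW_le_core E hz.1)), fun π hπ => ?_⟩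
      exact CfsgLib.Solvable.commutator_le_of_le_normalizer
        (fun g hg => normalizer_v1_le_K (hP.le_normalizer_v1 hg))
        (commutator_comm P K ▸ commutator_mem_commutator hπ hzK)

theorem exists_comp (hG : centralizer (pCore p G : Set G) ≤ pCore p G)
    (hE : IsBaumannBlock p (T : Subgroup G) E) (hEs : E.IsSubnormal)
    (hx : Exc p (T : Subgroup G) E) (hs : Solv p E s) {c : G} (hc : c ∈ bC p E)
    (hco : (orderOf c).Coprime p) : ∃ P, c ∈ P ∧ Comp p E P := by
  haveI : Fact (Nat.Prime 2) := ⟨Nat.prime_two⟩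
  have ht : topPrime p = 2 := by rw [topPrime, if_neg (by rw [hx.three]; norm_num)]
  have hc2 : IsPGroup 2 ↥((zpowers c).subgroupOf (bC p E)) := by
    refine IsPGroup.comap_subtype ?_
    obtain ⟨b, hb⟩ := exists_pow_mem_of_bR (bC_le_bR hc)
    have h1 : c ^ topPrime p ^ b = 1 :=
      eq_one_of_pElem_coprime (CfsgLib.Cores.isPGroup_pCore p) hb (orderOf_pow_self hco _)
    obtain ⟨i, -, hi⟩ := (Nat.dvd_prime_pow Nat.prime_two).1 (ht ▸ orderOf_dvd_of_pow_eq_one h1)
    exact IsPGroup.of_card (n := i) (by rw [Nat.card_zpowers, hi])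
  obtain ⟨S, hS⟩ := hc2.exists_le_sylow
  refine ⟨(S : Subgroup ↥(bC p E)).map (bC p E).subtype,
    ⟨⟨c, hc⟩, hS (mem_subgroupOf.2 (mem_zpowers c)), rfl⟩, map_subtype_le _, S.2.map _, ?_⟩
  set π := ((QuotientGroup.mk' (pCore p G)).comp (bC p E).subtype) with hπ
  have hr2 : IsPGroup 2 ↥π.range := by
    refine (ht ▸ CfsgLib.Cores.isPGroup_pCore (G := G ⧸ pCore p G) (topPrime p)).to_le ?_
    rintro _ ⟨y, rfl⟩
    exact ht ▸ (show π y ∈ pCore (topPrime p) (G ⧸ pCore p G) from bC_le_bR y.2)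
  set S' := S.mapSurjective π.rangeRestrict_surjective with hS'
  have htop : (⊤ : Subgroup ↥π.range) = (S' : Subgroup ↥π.range) :=
    S'.3 (hr2.of_equiv (Subgroup.topEquiv.symm)) le_top
  intro y hy
  have h1 : π.rangeRestrict ⟨y, hy⟩ ∈ (S' : Subgroup ↥π.range) := htop ▸ mem_top _
  rw [hS', Sylow.coe_mapSurjective] at h1
  obtain ⟨z, hz, hzy⟩ := h1
  have h2 : (z : G)⁻¹ * y ∈ pCore p G := (QuotientGroup.eq).1 (congrArg Subtype.val hzy)
  have h3 := mul_mem (mem_sup_left (T := pCore p G)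
    (show (z : G) ∈ (S : Subgroup ↥(bC p E)).map (bC p E).subtype from ⟨z, hz, rfl⟩)) (mem_sup_right h2)
  rwa [mul_inv_cancel_left] at h3

/-- `[E, P]` stabilises the series `V ≥ U ≥ QK ≥ K ≥ 1`. -/
theorem Comp.commutator_le (hG : centralizer (pCore p G : Set G) ≤ pCore p G)
    (hx : Exc p (T : Subgroup G) E) (hE : IsBaumannBlock p (T : Subgroup G) E)
    (hEs : E.IsSubnormal) (hs : Solv p E s) (hP : Comp p E P) {e π : G} (he : e ∈ E) (hπ : π ∈ P) :
    ⁅e, π⁆ ∈ pCore p G := by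
  set U := v1 p E with hU
  set K := ⁅v1 p E, v1 p E⁆ with hK
  have hQS := hP.core_le_rel hG hx hE hEs hs
  have hQU := hx.core_le_v1 hE hEs
  have hKU : K ≤ U := CfsgLib.Solvable.commutator_le_of_le_normalizer le_normalizer
  set M := pCoreOf p E ⊔ K with hM
  have hMU : M ≤ U := sup_le hQU hKU
  have hEU : e ∈ normalizer (U : Set G) := normalizer_le_v1 (le_normalizer he)
  have hπU : π ∈ normalizer (U : Set G) := hP.le_normalizer_v1 hπ
  have hπK := normalizer_v1_le_K hπU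
  have heK := normalizer_v1_le_K hEU
  have hMS : M ≤ relCent U (P : Set G) K := sup_le hQS fun k hk =>
    ⟨hKU hk, le_normalizer hk, fun x hx' => CfsgLib.Solvable.commutator_le_of_le_normalizer
      (fun g hg => normalizer_v1_le_K (hP.le_normalizer_v1 hg))
      (commutator_comm P K ▸ commutator_mem_commutator hx' hk)⟩
  have hπM : π ∈ stab M K := mem_stab_of_le le_sup_right
    (CfsgLib.LocalEven.mem_normalizer_of_conj_le (by
      rintro _ ⟨y, hy, rfl⟩
      show π * y * π⁻¹ ∈ M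
      rw [conj_eq_comm_mul]
      exact mul_mem (mem_sup_right ((hMS hy).2.2 π hπ)) hy))
    fun y hy => commutatorElement_inv π y ▸ inv_mem ((hMS hy).2.2 π hπ)
  have heM : e ∈ normalizer (M : Set G) := CfsgLib.LocalEven.mem_normalizer_of_conj_le
    (le_of_eq_of_le (Subgroup.map_sup _ _ _) (sup_le_sup
      (mem_normalizer_iff_map_conj_eq.1 (CfsgLib.LocalEven.le_normalizer_pCoreOf p E he)).le
      (mem_normalizer_iff_map_conj_eq.1 heK).le))
  have s1 : ⁅e, π⁆ ∈ stab (pCore p G) U :=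
    (commutator_mem_stab (bC_le_stab (hP.le hπ)) (mem_normalizer_normal e) hEU).2
  have s2 : ⁅e, π⁆ ∈ stab U M := by
    refine (commutator_mem_stab (mem_stab_of_le hMU hEU fun u hu => ?_) hπU hπM.1).1
    exact mem_sup_left (commutator_V_le_core hE (commutator_mem_commutator hu.1 he))
  have s3 : ⁅e, π⁆ ∈ stab M K := (commutator_mem_stab hπM heM heK).2
  have s4 : ⁅e, π⁆ ∈ centralizer (K : Set G) := by
    have hek : e ∈ stab K ⊥ := mem_stab_of_le bot_le heK fun k hk => by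
      rw [← hx.commutator_v1_centralized hE hEs hs]
      exact commutator_mem_commutator hk he
    refine mem_centralizer_iff.2 fun k hk => commutatorElement_eq_one_iff_mul_comm.1 (mem_bot.1 ?_)
    exact (commutator_mem_stab hek hπK (by rw [normalizer_eq_top]; exact mem_top π)).1.2.2 k hk
  have hxR : ⁅e, π⁆ ∈ bR p G := by
    rw [commutatorElement_def]
    exact mul_mem (bR_normal.conj_mem _ (bC_le_bR (hP.le hπ)) e) (inv_mem (bC_le_bR (hP.le hπ)))
  refine mem_pCore_of_coprime_part hG hxR fun y hy hc v hv => ?_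
  have hpV : IsPGroup p ↥(pCore p G) := CfsgLib.Cores.isPGroup_pCore p
  have hUp : IsPGroup p ↥U := hpV.to_le relCent_le
  have hUM : U ≤ normalizer (M : Set G) := fun u hu => CfsgLib.LocalEven.mem_normalizer_of_conj_le
    (le_of_eq_of_le (Subgroup.map_sup _ _ _) (sup_le_sup
      (mem_normalizer_iff_map_conj_eq.1 (Block.normalizer_le_pCoreOf E (Block.pCore_le_normalizer hE hu.1))).le
      (mem_normalizer_iff_map_conj_eq.1 (normalizer_v1_le_K (le_normalizer hu))).le))
  have y1 := zpowers_le.2 s1 hy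
  have y2 := zpowers_le.2 s2 hy
  have y3 := zpowers_le.2 s3 hy
  have y4 := zpowers_le.2 s4 hy
  have h1 : ⁅v, y⁆ ∈ M := comm_mem_of_coprime hUp hc (y1.2.2 v hv) y2.2.1 hUM y2.2.2
  have h2 : ⁅v, y⁆ ∈ K := comm_mem_of_coprime (hUp.to_le hMU) hc h1 y3.2.1
    (hMU.trans fun u hu => normalizer_v1_le_K (le_normalizer hu)) y3.2.2
  refine mem_bot.1 (comm_mem_of_coprime (M := ⊥) (hUp.to_le hKU) hc h2 (by rw [normalizer_eq_top]; exact mem_top y)
    (by rw [normalizer_eq_top]; exact le_top) fun k hk => ?_)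
  rw [mem_bot, commutatorElement_eq_one_iff_mul_comm]
  exact mem_centralizer_iff.1 y4 k hk

theorem Exc.commutator_bC_le (hG : centralizer (pCore p G : Set G) ≤ pCore p G)
    (hx : Exc p (T : Subgroup G) E) (hE : IsBaumannBlock p (T : Subgroup G) E)
    (hEs : E.IsSubnormal) (hs : Solv p E s) : ⁅E, bC p E⁆ ≤ pCore p G := by
  obtain ⟨P, -, hP⟩ := exists_comp hG hE hEs hx hs (one_mem _) (by rw [orderOf_one]; exact Nat.coprime_one_left p)
  refine (commutator_mono le_rfl hP.sup).trans (commutator_sup_le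
    (Subgroup.commutator_le.2 fun e he π hπ => hP.commutator_le hG hx hE hEs hs he hπ)
    (commutator_le_right E (pCore p G)) (fun g _ => mem_normalizer_normal g) fun g _ => mem_normalizer_normal g)

theorem Exc.coprime_centralizes (hG : centralizer (pCore p G : Set G) ≤ pCore p G)
    (hx : Exc p (T : Subgroup G) E) (hE : IsBaumannBlock p (T : Subgroup G) E)
    (hEs : E.IsSubnormal) (hs : Solv p E s) {c : G} (hc : c ∈ bC p E) (hco : (orderOf c).Coprime p) :
    c ∈ centralizer (pCoreOf p E : Set G) := by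
  obtain ⟨P, hcP, hP⟩ := exists_comp hG hE hEs hx hs hc hco
  have hcE : c ∈ normalizer (E : Set G) :=
    le_normalizer_of_commutator_le hE (hx.commutator_bC_le hG hE hEs hs) hc
  have h1 : ∀ q ∈ pCoreOf p E, ⁅q, c⁆ ∈ bZ p E := fun q hq => by
    have hK : ⁅q, c⁆ ∈ ⁅v1 p E, v1 p E⁆ :=
      commutatorElement_inv c q ▸ inv_mem ((hP.core_le_rel hG hx hE hEs hs hq).2.2 c hcP)
    have hQ : ⁅q, c⁆ ∈ E :=
      CfsgLib.Solvable.commutator_le_of_le_normalizer (A := zpowers c) (K := E) (zpowers_le.2 hcE)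
        (commutator_mem_commutator (CfsgLib.LocalEven.pCoreOf_le p E hq) (mem_zpowers c))
    exact hx.center.le
      ⟨hQ, commutator_eq_bot_iff_le_centralizer.1 (hx.commutator_v1_centralized hE hEs hs) hK⟩
  have hZc : ∀ z ∈ bZ p E, ⁅z, c⁆ = 1 := by
    suffices h : bZ p E ≤ centralizer ({c} : Set G) from fun z hz =>
      commutatorElement_eq_one_iff_mul_comm.2 (mem_centralizer_iff.1 (h hz) c rfl).symm
    rw [← hx.derived, Subgroup.commutator_le]
    intro a ha b hb
    refine mem_centralizer_iff.2 fun y hy => ?_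
    rw [Set.mem_singleton_iff.1 hy]
    refine (mul_inv_eq_iff_eq_mul.1 ?_)
    have hz : ∀ q ∈ pCoreOf p E, ∃ z ∈ bZ p E, c * q * c⁻¹ = z * q := fun q hq =>
      ⟨⁅c, q⁆, commutatorElement_inv q c ▸ inv_mem (h1 q hq), conj_eq_comm_mul c q⟩
    obtain ⟨z1, hz1, e1⟩ := hz a ha
    obtain ⟨z2, hz2, e2⟩ := hz b hb
    have hzc : ∀ z ∈ bZ p E, ∀ q ∈ pCoreOf p E, z * q = q * z := fun z hz q hq =>
      (core_comm hq hz.1).symm
    rw [show c * ⁅a, b⁆ * c⁻¹ = ⁅c * a * c⁻¹, c * b * c⁻¹⁆ by simp only [commutatorElement_def]; group, e1, e2]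
    have hb2 : z2 * b ∈ pCoreOf p E := mul_mem (bW_le_core E hz2.1) hb
    have habQ : ⁅a, b⁆ ∈ pCoreOf p E := by
      rw [commutatorElement_def]; exact mul_mem (mul_mem (mul_mem ha hb) (inv_mem ha)) (inv_mem hb)
    calc ⁅z1 * a, z2 * b⁆ = z1 * (a * (z2 * b) * a⁻¹) * z1⁻¹ * (z2 * b)⁻¹ := by
          simp only [commutatorElement_def]; group
      _ = (a * (z2 * b) * a⁻¹) * (z2 * b)⁻¹ := by
          rw [hzc z1 hz1 _ (mul_mem (mul_mem ha hb2) (inv_mem ha)), mul_inv_cancel_right]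
      _ = (a * z2 * a⁻¹) * ⁅a, b⁆ * z2⁻¹ := by simp only [commutatorElement_def]; group
      _ = ⁅a, b⁆ := by
          rw [← hzc z2 hz2 a ha, mul_inv_cancel_right, hzc z2 hz2 _ habQ, mul_inv_cancel_right]
  refine mem_centralizer_iff.2 fun q hq => commutatorElement_eq_one_iff_mul_comm.1 ?_
  refine mem_bot.1 (comm_mem_of_coprime (M := ⊥) ((isPGroup_bW E).to_le inf_le_left) hco (h1 q hq)
    (by rw [normalizer_eq_top]; exact mem_top c) (by rw [normalizer_eq_top]; exact le_top)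
    fun z hz => mem_bot.2 (hZc z hz))

end Exc

end CfsgLib.LocalEven.SubBlock
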