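import Mathlib
import Cfsg.Agent.Lib.LocalEven.SubBlock.Quat

/-!
Subnormal blocks are equal or commute.
-/

set_option autoImplicit false

namespace CfsgLib.LocalEven.SubBlock

open Subgroup Cfsg
open scoped Pointwise commutatorElement

variable {G : Type*} [Group G] [Finite G] {p : ℕ} [Fact p.Prime] {T T' : Sylow p G} {E F : Subgroup G}
  {s t : G}

attribute [local instance] normal_pCore'

theorem le_stab_block (hG : centralizer (pCore p G : Set G) ≤ pCore p G)
    (hE : IsBaumannBlock p (T : Subgroup G) E) (hEs : E.IsSubnormal) :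
    E ≤ stab (pCore p G) (v1 p E) := by
  refine fun e he => mem_stab_of_le relCent_le (mem_normalizer_normal e) fun v hv => ?_
  have hu : ⁅v, e⁆ ∈ pCoreOf p E := commutator_V_le_core hE (commutator_mem_commutator hv he)
  refine mem_v1 hE (core_le_pCore hEs hu) fun q hq => ?_
  rcases core_eq_or_exc hE with h | h
  · rw [commutatorElement_eq_one_iff_mul_comm.2 (core_comm hq (h.le hu))]; exact one_mem _
  · exact h.derived.le (commutator_mem_commutator hq hu)

/-- A block in relation to `E` stabilises `O_p(G) ≥ v1`. -/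
theorem le_stab_other (hG : centralizer (pCore p G : Set G) ≤ pCore p G)
    (hE : IsBaumannBlock p (T : Subgroup G) E) (hEs : E.IsSubnormal) (hs : Solv p E s)
    (hF : IsBaumannBlock p (T' : Subgroup G) F) (hFs : F.IsSubnormal) (ht : Solv p F t)
    (hrel : bWE p E = bWE p F ∨ (⁅bWE p E, F⁆ = ⊥ ∧ ⁅bWE p F, E⁆ = ⊥)) :
    F ≤ stab (pCore p G) (v1 p E) :=
  fun f hf => mem_stab_of_le relCent_le (mem_normalizer_normal f) fun _ hv =>
    commutator_le_v1 hG hE hEs hs hF hFs ht hrel (commutator_mem_commutator hv hf)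

/-- `[E, C] ≤ O_p(G)`. -/
theorem commutator_bC_le (hG : centralizer (pCore p G : Set G) ≤ pCore p G)
    (hE : IsBaumannBlock p (T : Subgroup G) E) (hEs : E.IsSubnormal) (hs : Solv p E s) :
    ⁅E, bC p E⁆ ≤ pCore p G := by
  rcases core_eq_or_exc hE with h | h
  swap
  · exact h.commutator_bC_le hG hE hEs hs
  rw [Subgroup.commutator_le]
  intro e he c hc
  set W := bWE p E with hW
  have hWn : ∀ g ∈ E, g ∈ normalizer (W : Set G) := fun g hg => le_normalizer_bWE E hg
  have hWV : W ≤ pCore p G := (bWE_le_bA hG hE).trans bA_le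
  have hcW : c ∈ centralizer (W : Set G) := bC_le_centralizer hc
  have s1 : ⁅e, c⁆ ∈ stab (pCore p G) W :=
    (commutator_mem_stab (mem_stab_of_le hWV (mem_normalizer_normal e) fun v hv =>
      commutator_V_le_bWE hE h (commutator_mem_commutator hv he)) (mem_normalizer_normal c)
      (centralizer_le_normalizer _ hcW)).1
  have s2 : ⁅e, c⁆ ∈ stab W ⊥ :=
    (commutator_mem_stab (mem_stab_of_le bot_le (centralizer_le_normalizer _ hcW) fun w hw => mem_bot.2
      (commutatorElement_eq_one_iff_mul_comm.2 (mem_centralizer_iff.1 hcW w hw))) (hWn e he)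
      (by rw [normalizer_eq_top]; exact mem_top e)).2
  have hxR : ⁅e, c⁆ ∈ bR p G := by
    rw [commutatorElement_def]
    exact mul_mem (bR_normal.conj_mem _ (bC_le_bR hc) e) (inv_mem (bC_le_bR hc))
  refine mem_pCore_of_coprime_part hG hxR fun y hy hco v hv => ?_
  exact mem_bot.1 (comm_mem_of_coprime ((isPGroup_bW E).to_le (bWE_le E)) hco
    ((zpowers_le.2 s1 hy).2.2 v hv) (zpowers_le.2 s2 hy).2.1 (by rw [normalizer_eq_top]; exact le_top)
    (zpowers_le.2 s2 hy).2.2)

/-- Coprime elements of `C` centralise `[O_p(G), E]`. -/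
theorem coprime_centralizes (hG : centralizer (pCore p G : Set G) ≤ pCore p G)
    (hE : IsBaumannBlock p (T : Subgroup G) E) (hEs : E.IsSubnormal) (hs : Solv p E s)
    {c : G} (hc : c ∈ bC p E) (hco : (orderOf c).Coprime p) :
    c ∈ centralizer ((⁅pCore p G, E⁆ : Subgroup G) : Set G) := by
  rcases core_eq_or_exc hE with h | h
  · exact centralizer_le (commutator_V_le_bWE hE h) (bC_le_centralizer hc)
  · exact centralizer_le (commutator_V_le_core hE) (h.coprime_centralizes hG hE hEs hs hc hco)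

theorem commute_of_disjoint (hG : centralizer (pCore p G : Set G) ≤ pCore p G)
    (hE : IsBaumannBlock p (T : Subgroup G) E) (hEs : E.IsSubnormal) (hs : Solv p E s)
    (hF : IsBaumannBlock p (T' : Subgroup G) F) (hFs : F.IsSubnormal) (ht : Solv p F t)
    (hd : ⁅bWE p E, F⁆ = ⊥ ∧ ⁅bWE p F, E⁆ = ⊥) : ⁅E, F⁆ = ⊥ := by
  have hFW : F ≤ centralizer (bWE p E : Set G) :=
    commutator_eq_bot_iff_le_centralizer.1 (by rw [commutator_comm]; exact hd.1)
  have hFC : F ≤ bC p E := fun f hf =>
    ⟨⟨le_bR ht hFs hf, hFW hf⟩, le_stab_other hG hE hEs hs hF hFs ht (Or.inr hd) hf⟩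
  have hEF : ⁅E, F⁆ ≤ pCore p G := (commutator_mono le_rfl hFC).trans (commutator_bC_le hG hE hEs hs)
  refine commutator_eq_bot_of_core hE hF hEF ?_
  have hFE := le_normalizer_of_commutator_le hE hEF
  have hFZ : F ≤ normalizer (bZ p E : Set G) := hFE.trans (normalizer_le_bZ E)
  rcases core_eq_or_exc hE with h | h
  · rw [h, commutator_le]
    intro x hx f hf
    obtain ⟨w, hw, z, hz, rfl⟩ := exists_mul_of_sup (bWE_le E) ((bWE_sup hE).ge hx)
    rw [show ⁅w * z, f⁆ = w * ⁅z, f⁆ * w⁻¹ * ⁅w, f⁆ by simp only [commutatorElement_def]; group,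
      commutatorElement_eq_one_iff_mul_comm.2 (mem_centralizer_iff.1 (hFW hf) w hw), mul_one]
    exact Baumann.conj_mem_of_le_normalizer (le_normalizer_bZ E) (bW_le E (bWE_le E hw))
      (CfsgLib.Solvable.commutator_le_of_le_normalizer hFZ (commutator_mem_commutator hz hf))
  · refine commutator_le_of_generators hFZ (le_closure_coprime hF.1) (fun f hf => hf.1) fun q hq f hf => ?_
    rw [commutatorElement_eq_one_iff_mul_comm.2
      (mem_centralizer_iff.1 (h.coprime_centralizes hG hE hEs hs (hFC hf.1) hf.2) q hq)]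
    exact one_mem _

theorem le_of_same (hG : centralizer (pCore p G : Set G) ≤ pCore p G)
    (hE : IsBaumannBlock p (T : Subgroup G) E) (hEs : E.IsSubnormal) (hs : Solv p E s)
    (hF : IsBaumannBlock p (T' : Subgroup G) F) (hFs : F.IsSubnormal) (ht : Solv p F t)
    (hW : bWE p E = bWE p F) : F ≤ E := by
  refine le_of_le_sup hE hF.1 fun f hf => ?_
  obtain ⟨e, he, hk⟩ := same_image hE hs hF ht hW hf
  suffices hV : e⁻¹ * f ∈ pCore p G by
    have h1 := mul_mem (mem_sup_left (T := pCore p G) he) (mem_sup_right (S := E) hV)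
    rwa [mul_inv_cancel_left] at h1
  set k := e⁻¹ * f
  have hkR : k ∈ bR p G := mul_mem (inv_mem (le_bR hs hEs he)) (le_bR ht hFs hf)
  have hkE : k ∈ bC p E := ⟨⟨hkR, hk⟩, (stab (pCore p G) (v1 p E)).mul_mem
    ((stab (pCore p G) (v1 p E)).inv_mem (le_stab_block hG hE hEs he))
    (le_stab_other hG hE hEs hs hF hFs ht (Or.inl hW) hf)⟩
  have hkF : k ∈ bC p F := ⟨⟨hkR, hW ▸ hk⟩, (stab (pCore p G) (v1 p F)).mul_mem
    ((stab (pCore p G) (v1 p F)).inv_mem (le_stab_other hG hF hFs ht hE hEs hs (Or.inl hW.symm) he))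
    (le_stab_block hG hF hFs hf)⟩
  set D := ⁅pCore p G, E⁆ ⊔ ⁅pCore p G, F⁆ with hD
  have hDV : D ≤ pCore p G := sup_le (commutator_le_left _ _) (commutator_le_left _ _)
  have hkS : k ∈ stab (pCore p G) D :=
    mul_mem (inv_mem (mem_stab_of_le hDV (mem_normalizer_normal e) fun v hv =>
        mem_sup_left (commutator_mem_commutator hv he)))
      (mem_stab_of_le hDV (mem_normalizer_normal f) fun v hv =>
        mem_sup_right (commutator_mem_commutator hv hf))
  refine mem_pCore_of_coprime_part hG hkR fun y hy hco v hv => ?_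
  have hyE := coprime_centralizes hG hE hEs hs (zpowers_le.2 hkE hy) hco
  have hyF := coprime_centralizes hG hF hFs ht (zpowers_le.2 hkF hy) hco
  have hyD : D ≤ centralizer ({y} : Set G) := sup_le
    (fun d hd => mem_centralizer_iff.2 fun z hz => by
      rw [Set.mem_singleton_iff.1 hz]; exact (mem_centralizer_iff.1 hyE d hd).symm)
    (fun d hd => mem_centralizer_iff.2 fun z hz => by
      rw [Set.mem_singleton_iff.1 hz]; exact (mem_centralizer_iff.1 hyF d hd).symm)
  exact mem_bot.1 (comm_mem_of_coprime (M := ⊥) ((CfsgLib.Cores.isPGroup_pCore p).to_le hDV) hco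
    ((zpowers_le.2 hkS hy).2.2 v hv) (by rw [normalizer_eq_top]; exact mem_top y)
    (by rw [normalizer_eq_top]; exact le_top) fun d hd => mem_bot.2
      (commutatorElement_eq_one_iff_mul_comm.2 (mem_centralizer_iff.1 (hyD hd) y rfl).symm))

/-- Subnormal `B(T)`-blocks are equal or commute. -/
theorem blocks_eq_or_commute (hG : centralizer (pCore p G : Set G) ≤ pCore p G)
    (hE : IsBaumannBlock p (T : Subgroup G) E) (hEs : E.IsSubnormal)
    (hF : IsBaumannBlock p (T' : Subgroup G) F) (hFs : F.IsSubnormal) : E = F ∨ ⁅E, F⁆ = ⊥ := by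
  rcases perf_or_solv hE with hEp | ⟨s, hs⟩
  · exact perf_case hE hEs hF hFs (Or.inl hEp)
  rcases perf_or_solv hF with hFp | ⟨t, ht⟩
  · exact perf_case hE hEs hF hFs (Or.inr hFp)
  rcases solv_dichotomy hG hE hEs hs hF hFs ht with hW | hd
  · exact Or.inl (le_antisymm (le_of_same hG hF hFs ht hE hEs hs hW.symm) (le_of_same hG hE hEs hs hF hFs ht hW))
  · exact Or.inr (commute_of_disjoint hG hE hEs hs hF hFs ht hd)

end CfsgLib.LocalEven.SubBlock
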